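import Cfsg.Agent.TECH.SylIn
import Cfsg.Agent.TECH.MiscSyl
import Cfsg.Agent.SOLV.Coprime
import Cfsg.Agent.SIG.PBase
import Cfsg.Agent.BLK.PPart

/-! Extremely closed abelian `p`-subgroups: the group theory of the pairs `⟨H, H^g⟩`. -/

set_option autoImplicit false

namespace CL.XC
open Subgroup Cfsg CL.MSS CL.PComp CL.Blk

variable {G : Type*} [Group G] {p : ℕ} {H : Subgroup G}

/-- `H` is an extremely closed abelian `p`-subgroup. -/
structure Hy (p : ℕ) (H : Subgroup G) : Prop where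
  pg : IsPGroup p H
  ab : ∀ x ∈ H, ∀ y ∈ H, x * y = y * x
  ec : ∀ g x : G, x ∈ H ⊔ g •ᶜ H → x ∈ normalizer (H : Set G) → x ∈ H

theorem Hy.ord [hp : Fact p.Prime] (h : Hy p H) {x : G} (hx : x ∈ H) :
    ∃ k, orderOf x = p ^ k := pElt_of_mem_isPGroup hp.out h.pg hx

theorem Hy.le_cen (h : Hy p H) {v : G} (hv : v ∈ H) : H ≤ centralizer ({v} : Set G) :=
  fun x hx => mem_centralizer_singleton_iff.2 (h.ab x hx v hv)

theorem Hy.sub (h : Hy p H) {Y : Subgroup G} (hY : H ≤ Y) : Hy p (H.subgroupOf Y) := by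
  refine ⟨isPGroup_subgroupOf h.pg Y, fun x hx y hy => Subtype.ext (h.ab _ hx _ hy),
    fun g x hx hn => h.ec g x ?_ ?_⟩
  · have h1 : (H.subgroupOf Y ⊔ g •ᶜ H.subgroupOf Y).map Y.subtype ≤ H ⊔ (g : G) •ᶜ H := by
      rw [Subgroup.map_sup, subtype_map_cj, subgroupOf_map_subtype, inf_eq_left.2 hY]
    exact h1 ⟨x, hx, rfl⟩
  · rw [mem_normalizer_iff] at hn ⊢
    intro a
    constructor
    · intro ha
      exact (hn ⟨a, hY ha⟩).1 ha
    · intro ha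
      have h2 : a ∈ Y := by
        have := Y.mul_mem (Y.mul_mem (Y.inv_mem x.2) (hY ha)) x.2
        simpa [mul_assoc] using this
      exact (hn ⟨a, h2⟩).2 ha

theorem mem_norm_of_quot (Z : Subgroup G) [Z.Normal] (hZ : Z ≤ H) {x : G}
    (hx : QuotientGroup.mk' Z x ∈ normalizer ((H.map (QuotientGroup.mk' Z) : Subgroup _) : Set _)) :
    x ∈ normalizer (H : Set G) := by
  have e : (H.map (QuotientGroup.mk' Z)).comap (QuotientGroup.mk' Z) = H := by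
    rw [comap_map_eq, QuotientGroup.ker_mk', sup_eq_left.2 hZ]
  rw [mem_normalizer_iff] at hx ⊢
  intro a
  have := hx (QuotientGroup.mk' Z a)
  rw [← map_inv, ← map_mul, ← map_mul, ← mem_comap, ← mem_comap, e] at this
  exact this

theorem Hy.quot (h : Hy p H) (Z : Subgroup G) [Z.Normal] (hZ : Z ≤ H) :
    Hy p (H.map (QuotientGroup.mk' Z)) := by
  refine ⟨h.pg.map _, ?_, fun g x hx hn => ?_⟩
  · rintro _ ⟨x, hx, rfl⟩ _ ⟨y, hy, rfl⟩
    rw [← map_mul, ← map_mul, h.ab x hx y hy]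
  · obtain ⟨g, rfl⟩ := QuotientGroup.mk'_surjective Z g
    rw [← map_cj, ← Subgroup.map_sup] at hx
    obtain ⟨x, hx', rfl⟩ := hx
    exact ⟨x, h.ec g x hx' (mem_norm_of_quot Z hZ hn), rfl⟩

theorem Hy.syl [Finite G] [Fact p.Prime] (h : Hy p H) (g : G) : SylIn p H (H ⊔ g •ᶜ H) :=
  SylIn.of_normalizer_le (sylIn_self h.pg) le_sup_left fun x hx => h.ec g x hx.1 hx.2

theorem Hy.le_norm [Finite G] [Fact p.Prime] (h : Hy p H) {P : Subgroup G} (hP : IsPGroup p P)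
    (hHP : H ≤ P) : P ≤ normalizer (H : Set G) := fun g hg =>
  mem_normalizer_of_cj_le (le_sup_right.trans ((h.syl g).eq_of_isPGroup
    (hP.to_le (sup_le hHP (cj_le_of_mem hHP hg)))).ge)

theorem Hy.compl [Finite G] [Fact p.Prime] (h : Hy p H) (g : G) :
    ∃ K : Subgroup G, (Nat.card K).Coprime p ∧ H ⊔ g •ᶜ H ≤ normalizer (K : Set G) ∧
      H ⊔ K = H ⊔ g •ᶜ H := by
  have h1 := h.syl g
  have h2 := CL.Misc.burnside_pPrimeCore h1.toSylow (fun x hx y hy => Subtype.ext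
    (h.ab _ hy _ (h.ec g x x.2 (mem_normalizer_of_cj_le (cj_le_iff_forall.mpr fun a ha =>
      (mem_normalizer_iff.1 hx ⟨a, mem_sup_left ha⟩).1 ha)))))
  refine ⟨opOf p (H ⊔ g •ᶜ H), opOf_coprime p _, le_normalizer_opOf p _,
    le_antisymm (sup_le le_sup_left (opOf_le p _)) fun x hx => ?_⟩
  obtain ⟨⟨y, z⟩, e'⟩ := (h2.existsUnique ⟨x, hx⟩).exists
  rw [sup_comm, show x = (y : ↥(H ⊔ g •ᶜ H)) * (z : ↥(H ⊔ g •ᶜ H)) from
    (congrArg Subtype.val e').symm]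
  exact mul_mem_sup ⟨_, y.2, rfl⟩ z.2

/-- A `p'`-element of `H K` lies in `K`. -/
theorem mem_of_reg [Finite G] [Fact p.Prime] (hH : IsPGroup p H) {K : Subgroup G}
    (hK : (Nat.card K).Coprime p) (hn : H ≤ normalizer (K : Set G)) {b : G} (hb : b ∈ H ⊔ K)
    (ho : ¬ p ∣ orderOf b) : b ∈ K := by
  have h0 : zpowers b ≤ normalizer (K : Set G) :=
    zpowers_le.2 ((sup_le hn le_normalizer :) hb)
  obtain ⟨y, hy, z, hz, rfl⟩ := (mem_sup_of_normalizes_right hn).1 hb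
  have h1 := coprime_card_sup h0 (by
    rw [Nat.card_zpowers]; exact coprime_card_iff_not_dvd.2 ho) hK
  have h2 : y ∈ H ⊓ (zpowers (y * z) ⊔ K) := ⟨hy, by
    have := mul_mem (mem_sup_left (mem_zpowers (y * z))) (mem_sup_right (S := zpowers (y * z))
      (inv_mem hz))
    simpa using this⟩
  rw [inf_eq_bot_of_isPGroup_of_coprime hH h1, mem_bot] at h2
  simpa [h2] using hz

theorem Hy.lemA [Finite G] [hp : Fact p.Prime] (h : Hy p H) (g : G) :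
    ∃ n ∈ normalizer (H : Set G), ∀ x ∈ H, ∀ y ∈ H, ∃ s t : G,
      x * (g * y * g⁻¹) = t * (x * (n * y * n⁻¹) * s) * t⁻¹ ∧ Commute (x * (n * y * n⁻¹)) s ∧
        ¬ p ∣ orderOf s ∧ ∀ L : Subgroup G, H ≤ L →
          centralizer ({x * (n * y * n⁻¹)} : Set G) ≤ normalizer (L : Set G) → s ∈ L := by
  obtain ⟨K, hK, hXK, hHK⟩ := h.compl g
  have h1 := h.syl g
  have hn : H ≤ normalizer (K : Set G) := le_sup_left.trans hXK
  have hb : H ⊓ K = ⊥ := inf_eq_bot_of_isPGroup_of_coprime h.pg hK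
  have hKX : K ≤ H ⊔ g •ᶜ H := hHK ▸ le_sup_right
  have dec : ∀ t ∈ H ⊔ g •ᶜ H, ∃ k ∈ K, ∃ a ∈ H, k * a = t := fun t ht =>
    (mem_sup_of_normalizes_left hn).1 (by rwa [sup_comm, hHK])
  have key : ∀ t ∈ H ⊔ g •ᶜ H, ∀ v ∈ H, v⁻¹ * (t * v * t⁻¹) ∈ K := by
    intro t ht v hv
    obtain ⟨k, hk, a, ha, rfl⟩ := dec t ht
    have e : v⁻¹ * (k * a * v * (k * a)⁻¹) = v⁻¹ * k * v * k⁻¹ := by
      rw [mul_assoc k a v, h.ab a ha v hv]; group
    rw [e]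
    exact mul_mem (conj_mem_of_normalizes' hn hv hk) (inv_mem hk)
  obtain ⟨x0, hx0, e0⟩ := h1.exists_conj (h1.of_card_le (isPGroup_cj g h.pg) le_sup_right
    (card_cj g H).ge)
  obtain ⟨k, hk, a, ha, rfl⟩ := dec x0 hx0
  rw [cj_mul, cj_eq_of_mem ha] at e0
  have hN : k⁻¹ * g ∈ normalizer (H : Set G) := by
    rw [mem_normalizer_iff_cj, cj_mul, ← e0, inv_cj_cj]
  refine ⟨k⁻¹ * g, hN, fun x hx y hy => ?_⟩
  have hz : k⁻¹ * g * y * (k⁻¹ * g)⁻¹ ∈ H := (mem_normalizer_iff.1 hN y).1 hy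
  have ew : x * (g * y * g⁻¹) = x * (k * (k⁻¹ * g * y * (k⁻¹ * g)⁻¹) * k⁻¹) := by group
  rw [ew]
  generalize k⁻¹ * g * y * (k⁻¹ * g)⁻¹ = z at hz
  have hv : x * z ∈ H := mul_mem hx hz
  have hw : x * (k * z * k⁻¹) ∈ H ⊔ g •ᶜ H :=
    mul_mem (mem_sup_left hx) (mul_mem (mul_mem (hKX hk) (mem_sup_left hz)) (inv_mem (hKX hk)))
  obtain ⟨c, hc⟩ := exists_isPPart hp.out (x * (k * z * k⁻¹))
  have hcX := hc.mem hp.out hw
  obtain ⟨b, hcb, hcm, hco, hbo⟩ := hc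
  have hbX : b ∈ H ⊔ g •ᶜ H := by
    have := mul_mem (inv_mem hcX) hw
    rwa [← hcb, inv_mul_cancel_left] at this
  have hbK : b ∈ K := mem_of_reg h.pg hK hn (hHK ▸ hbX) hbo
  obtain ⟨t, ht, htc⟩ := h1.exists_conj_le (isPGroup_zpowers_of_pElt hco) (zpowers_le.2 hcX)
  have hc' : t * c * t⁻¹ ∈ H := htc (conj_mem_cj (mem_zpowers c))
  have hs : t * b * t⁻¹ ∈ K := conj_mem_of_normalizes hXK ht hbK
  have e1 : t * c * t⁻¹ = x * z := by
    have h2 : (x * z)⁻¹ * (t * c * t⁻¹) ∈ H ⊓ K := ⟨H.mul_mem (H.inv_mem hv) hc', by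
      have e : (x * z)⁻¹ * (t * c * t⁻¹) = (x * z)⁻¹ * (t * (x * z) * t⁻¹) *
          (t * (z⁻¹ * (k * z * k⁻¹)) * t⁻¹) * (t * b * t⁻¹)⁻¹ := by
        rw [show c = x * (k * z * k⁻¹) * b⁻¹ by rw [← hcb]; group]; group
      rw [e]
      exact K.mul_mem (K.mul_mem (key t ht _ hv)
        (conj_mem_of_normalizes hXK ht (key k (hKX hk) z hz))) (K.inv_mem hs)⟩
    rw [hb, mem_bot] at h2
    exact (inv_mul_eq_one.1 h2).symm
  have hcs : Commute (x * z) (t * b * t⁻¹) := by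
    rw [← e1]
    have := hcm.eq
    change _ * _ = _ * _
    calc t * c * t⁻¹ * (t * b * t⁻¹) = t * (c * b) * t⁻¹ := by group
      _ = _ := by rw [this]; group
  refine ⟨t * b * t⁻¹, t⁻¹, by rw [← e1, ← hcb]; group, hcs, by rwa [orderOf_conj'],
    fun L hL hC => ?_⟩
  have hD : H ≤ normalizer ((K ⊓ centralizer ({x * z} : Set G) : Subgroup G) : Set G) :=
    le_normalizer_inf hn ((h.le_cen hv).trans le_normalizer)
  obtain ⟨e, he⟩ := h.pg.exists_card_eq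
  have : Group.IsNilpotent H := h.pg.isNilpotent
  have h3 := CL.coprime_commutator_sup_centralizer H _ hD (by
    rw [he]
    exact (coprime_card_of_le inf_le_left hK).symm.pow_left e) (Or.inl inferInstance)
  have h4 : (K ⊓ centralizer ({x * z} : Set G)) ⊓ centralizer (H : Set G) ≤ ⊥ := fun d hd => by
    rw [← hb]
    exact ⟨h.ec g d (hKX hd.1.1) (centralizer_le_normalizer _ hd.2), hd.1.1⟩
  have h5 : ⁅K ⊓ centralizer ({x * z} : Set G), H⁆ ≤ L := commutator_le.2 fun d hd a ha =>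
    mul_mem (conj_mem_of_normalizes hC hd.2 (hL ha)) (inv_mem (hL ha))
  refine (sup_le h5 (h4.trans bot_le) :) (h3.ge ⟨hs, ?_⟩)
  exact mem_centralizer_singleton_iff.2 hcs.eq.symm

end CL.XC
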