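import Cfsg.Agent.BLK.Princ3
import Cfsg.Agent.BLK.GRoots
import Cfsg.Agent.TECH.Conj

/-! The coprime case: a non-trivial invariant character. -/

set_option autoImplicit false

namespace CL.XC
open Subgroup Cfsg CL.Char CL.Blk CL.MSS
open scoped ComplexConjugate commutatorElement

variable {G : Type*} [Group G] {p : ℕ} {H K : Subgroup G}

/-- Proof: `M` from `CL.Glb.exists_isPModular`. Column orthogonality `∑ θ, θ 1 * θ c = 0`
(`θ` over `IrrCharacter K`, `c ≠ 1`); the summand is invariant under `irrCj K u`, `u ∈ H` (`c`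
centralizes `H`), so by `sum_sub_sum_inv_mem` the sum over the invariant `θ` is a nonunit of `V M`;
if `irrOne K` were the only invariant character this sum would be `1` (`one_notMem_nonunits`).
So there is an invariant `θ ≠ irrOne K`; `inertia_eq_top_of_sup`, `exists_canon_ext` (`K.index` is
a power of `p`; `charDegree θ ∣ |K|`; `detOrder θ` divides `|K|`, or
`not_dvd_detOrder_of_pResidual`) extend it to `χ`. If `χ k = χ 1` on `K` then `θ` is constant,
hence `θ = irrOne K`. -/
theorem exists_ext [Finite G] [Fact p.Prime] [K.Normal] (hH : IsPGroup p H) (hK : ¬ p ∣ Nat.card K)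
    (hHK : H ⊔ K = ⊤) {c : G} (hc : c ∈ K) (hc1 : c ≠ 1) (hcH : c ∈ centralizer (H : Set G)) :
    ∃ χ : G → ℂ, IsIrrCharacter G χ ∧ (IsIrrCharacter K fun k => χ k) ∧ ¬ p ∣ charDegree χ ∧
      ∃ k ∈ K, χ k ≠ χ 1 := by
  classical
  obtain ⟨M, hM⟩ := CL.Glb.exists_isPModular (Fact.out : p.Prime)
  obtain ⟨θ, hθ, h1⟩ : ∃ θ : IrrCharacter K, (∀ u ∈ H, irrCj K u θ = θ) ∧ θ ≠ Blk.irrOne K := by
    by_contra! k
    have h := sum_sub_sum_inv_mem (N := K) hM hH (fun θ => θ.1 1 * θ.1 ⟨c, hc⟩)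
      (fun θ => mul_mem (irr_mem_V θ _) (irr_mem_V θ _)) fun u hu θ => by
        simp only [irrCj_apply]
        congr 1 <;> refine congrArg _ (Subtype.ext ?_)
        · simp
        · simp [hcH u hu]
    rw [sum_degree_mul, if_neg fun e => hc1 (congrArg Subtype.val e),
      show (Finset.univ.filter fun θ : IrrCharacter K => ∀ u ∈ H, irrCj K u θ = θ) = {Blk.irrOne K} from
        Finset.eq_singleton_iff_unique_mem.2 ⟨Finset.mem_filter.2 ⟨Finset.mem_univ _, fun _ _ => rfl⟩,
          fun θ hθ => k θ (Finset.mem_filter.1 hθ).2⟩, Finset.sum_singleton] at h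
    exact one_notMem_nonunits (M := M) (by simpa [Blk.irrOne_apply] using neg_mem h)
  obtain ⟨k, hk⟩ : ∃ k, K.index = p ^ k := by
    obtain ⟨n, hn⟩ := hH.exists_card_eq
    rw [← relIndex_top_right, ← hHK, relIndex_sup_right]
    exact let ⟨k, _, e⟩ := (Nat.dvd_prime_pow Fact.out).1 (hn ▸ index_dvd_card (K.subgroupOf H)); ⟨k, e⟩
  have hd : ¬ p ∣ charDegree θ.1 := fun d => hK (d.trans (charDegree_dvd_card θ))
  obtain ⟨χ, he, -⟩ := exists_canon_ext K hk (inertia_eq_top_of_sup K (sup_comm H K ▸ hHK) hθ) hd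
    fun d => hK (d.trans (detOrder_dvd_card _))
  have e1 : χ.1 1 = θ.1 1 := he 1
  refine ⟨χ.1, χ.2, funext he ▸ θ.2, by rwa [charDegree, e1], ?_⟩
  by_contra! h
  have := Fintype.ofFinite K
  have := θ.2.sum_eq_zero fun e => h1 (Subtype.ext e)
  rw [Finset.sum_congr rfl fun k _ => (he k).symm.trans (h k k.2), Finset.sum_const, nsmul_eq_mul] at this
  exact mul_ne_zero (Nat.cast_ne_zero.2 Fintype.card_ne_zero) χ.2.one_ne_zero this

end CL.XC
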