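import Cfsg.Agent.FGS.XC.GL
import Cfsg.Agent.BLK.Princ3
import Cfsg.Agent.BLK.KerSet
import Cfsg.Agent.TECH.Conj
import Cfsg.Agent.CHAR.Quot

/-! The coprime case: values on a fixed-point-free normal subgroup of the centralizer. -/

set_option autoImplicit false

namespace CL.XC
open Subgroup Cfsg CL.Char CL.Blk CL.MSS
open scoped ComplexConjugate commutatorElement

variable {G : Type*} [Group G] {p : ℕ} {H K : Subgroup G}

theorem CopB.sum_ne [Finite G] [Fact p.Prime] (hH : IsPGroup p H) {χ : G → ℂ} (hχ : IsCharacter G χ)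
    (hd : ¬ p ∣ charDegree χ) {v : G} (hv : v ∈ H) (hab : H ≤ centralizer ({v} : Set G)) {R : Subgroup G} [Fintype R]
    (hn : H ≤ normalizer (R : Set G)) (hf : R ⊓ centralizer (H : Set G) = ⊥) : ∑ r : R, χ (r * v) ≠ 0 := by
  classical
  obtain ⟨M, hM⟩ := CL.Glb.exists_isPModular (Fact.out : p.Prime)
  let : MulAction H R := MulAction.compHom R (R.normalizerMonoidHom.comp (inclusion hn))
  have hs : ∀ (u : H) (r : R), ((u • r : R) : G) = u * r * (u : G)⁻¹ := fun _ _ => rfl
  have h1 := sum_sub_sum_fixed_mem hM hH (fun r : R => χ (r * v)) (fun r => char_mem_V hχ _) fun u r => by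
    have e : (u : G) * v = v * u := mem_centralizer_singleton_iff.1 (hab u.2)
    rw [hs, show (u : G) * r * (u : G)⁻¹ * v = u * (r * v) * (u : G)⁻¹ by
      rw [mul_assoc, mul_assoc, mul_assoc, mul_assoc, (Commute.inv_left e).eq], hχ.isClassFunction]
  have h2 : (Finset.univ.filter fun r : R => ∀ u : H, u • r = r) = {1} := by
    ext r
    simp only [Finset.mem_filter, Finset.mem_univ, true_and, Finset.mem_singleton]
    refine ⟨fun h => Subtype.ext (mem_bot.1 (hf ▸ ⟨r.2, fun u hu => ?_⟩)), fun h u => Subtype.ext (by rw [hs, h]; simp)⟩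
    exact mul_inv_eq_iff_eq_mul.1 ((hs ⟨u, hu⟩ r).symm.trans (congrArg Subtype.val (h ⟨u, hu⟩)))
  intro h0
  rw [h0, h2, Finset.sum_singleton, coe_one, one_mul, zero_sub, neg_mem_iff] at h1
  obtain ⟨k, hk⟩ := IsPGroup.iff_orderOf.1 hH ⟨v, hv⟩
  have h3 := (mem_nonunits_iff_of_sub (char_sub_one_mem hM hχ ⟨k, (orderOf_mk v hv).symm.trans hk⟩)).1 h1
  rw [hχ.apply_one_eq_charDegree, natCast_mem_nonunits_iff hM] at h3
  exact hd h3

/-- `η, ω` from `coset` (`D = K ⊓ C(v)`). The sum of `χ` over `R v` is not zero, so the normal subgroup `R` of `D` lies in the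
kernel of `η`. -/
theorem eq_on_fpf [Finite G] [Fact p.Prime] [K.Normal] (hH : IsPGroup p H)
    (hK : ¬ p ∣ Nat.card K) {χ : G → ℂ} (hχ : IsCharacter G χ)
    (hχK : IsIrrCharacter K fun k => χ k) (hd : ¬ p ∣ charDegree χ) {v : G} (hv : v ∈ H)
    (hab : H ≤ centralizer ({v} : Set G)) {R : Subgroup G} (hR : R ≤ K ⊓ centralizer ({v} : Set G))
    (hn : centralizer ({v} : Set G) ≤ normalizer (R : Set G))
    (hf : R ⊓ centralizer (H : Set G) = ⊥) {s : G} (hs : s ∈ R) : χ (s * v) = χ v := by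
  classical
  let := Fintype.ofFinite R
  obtain ⟨k, hk⟩ := IsPGroup.iff_orderOf.1 hH ⟨v, hv⟩
  obtain ⟨η, hη, ω, e⟩ := coset (K := K) (v := v) (by
    rw [← orderOf_mk v hv, hk]
    exact (((Fact.out : p.Prime).coprime_iff_not_dvd.2 hK).symm).pow_right k) hχ hχK
  have : (R.subgroupOf (K ⊓ centralizer ({v} : Set G))).Normal :=
    (normal_subgroupOf_iff_le_normalizer hR).2 (inf_le_right.trans hn)
  let := Fintype.ofFinite (R.subgroupOf (K ⊓ centralizer ({v} : Set G)))
  have k : ∀ n ∈ R.subgroupOf (K ⊓ centralizer ({v} : Set G)), η n = η 1 := by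
    by_contra h
    refine CopB.sum_ne hH hχ hd hv hab (hab.trans hn) hf ?_
    have := hη.sum_coset_eq_zero _ h 1
    rw [← (subgroupOfEquivOfLe hR).toEquiv.sum_comp]
    simp only [mul_one] at this
    rw [← mul_zero ω, ← this, Finset.mul_sum]
    exact Finset.sum_congr rfl fun n _ => e n
  have h1 := e 1
  rw [coe_one, one_mul] at h1
  rw [h1, ← k ⟨s, hR hs⟩ hs, ← e]

end CL.XC
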