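import Cfsg.Agent.FGS.XC.Fus
import Cfsg.Agent.FGS.XC.CopA
import Cfsg.Agent.FGS.XC.CopB

/-! The coprime case: the character step. -/

set_option autoImplicit false

namespace CL.XC
open Subgroup Cfsg CL.Blk CL.MSS CL.PComp
open scoped ComplexConjugate commutatorElement

variable {G : Type*} [Group G] {p : ℕ} {H K : Subgroup G}

theorem le_norm_normal (A N : Subgroup G) [N.Normal] : A ≤ normalizer (N : Set G) := by
  rw [normalizer_eq_top]; exact le_top

theorem cop [Finite G] [hp' : Fact p.Prime] (hp : p ≠ 2) [hKn : K.Normal] (h : Hy p H)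
    (hK : ¬ p ∣ Nat.card K) (hHK : H ⊔ K = ⊤) (hn : normalClosure (H : Set G) = ⊤)
    (ih : ∀ v ∈ H, v ≠ 1 → ∃ L : Subgroup G, H ≤ L ∧ L ≤ centralizer ({v} : Set G) ∧
      centralizer ({v} : Set G) ≤ normalizer (L : Set G) ∧ L ⊓ normalizer (H : Set G) ≤ H) :
    normalizer (H : Set G) ≤ H := by
  intro x hx
  by_contra hxH
  have hKc : (Nat.card K).Coprime p := coprime_card_iff_not_dvd.2 hK
  have hnK := le_norm_normal H K
  have hb : H ⊓ K = ⊥ := inf_eq_bot_of_isPGroup_of_coprime h.pg hKc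
  have hc : ∀ n ∈ normalizer (H : Set G), ∀ y ∈ H, n * y * n⁻¹ = y := by
    intro n hn' y hy
    have h1 := (mem_normalizer_iff.1 hn' y).1 hy
    obtain ⟨k, hk, a, ha, rfl⟩ := (mem_sup_of_normalizes_left hnK).1
      (show n ∈ K ⊔ H by rw [sup_comm, hHK]; exact mem_top _)
    have h2 : y⁻¹ * (k * a * y * (k * a)⁻¹) ∈ H ⊓ K := ⟨H.mul_mem (H.inv_mem hy) h1, by
      have e : y⁻¹ * (k * a * y * (k * a)⁻¹) = y⁻¹ * k * y * k⁻¹ := by
        rw [mul_assoc k a y, h.ab a ha y hy]; group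
      rw [e]
      exact K.mul_mem (conj_mem_of_normalizes' hnK hy hk) (K.inv_mem hk)⟩
    rw [hb, mem_bot] at h2
    exact (inv_mul_eq_one.1 h2).symm
  obtain ⟨a, ha, k, hk, rfl⟩ := (mem_sup_of_normalizes_right hnK).1 (hHK ▸ mem_top x)
  have hkN : k ∈ normalizer (H : Set G) := by
    simpa using mul_mem (inv_mem (le_normalizer ha)) hx
  obtain ⟨χ, hχ, hχK, hd, k₀, hk₀, hne⟩ := exists_ext h.pg hK hHK hk
    (fun e => hxH (by simpa [e] using ha))
    (mem_centralizer_iff.2 fun y hy => (mul_inv_eq_iff_eq_mul.1 (hc k hkN y hy)).symm)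
  obtain ⟨M, hM⟩ := CL.Glb.exists_isPModular hp'.out
  have h1 : H ≤ CL.Char.charCenter χ := by
    refine scalar hχ (fun u hu h0 => hd ?_) fun u hu g => ?_
    · have := char_sub_one_mem hM hχ.isCharacter (h.ord hu)
      rwa [h0, zero_sub, neg_mem_iff, hχ.apply_one_eq_charDegree, natCast_mem_nonunits_iff hM]
        at this
    by_cases hu1 : u = 1
    · simp [hu1]
    obtain ⟨n, hn', hg⟩ := h.lemA g
    obtain ⟨s, t, e, hcm, hs, hL⟩ := hg u hu u hu
    rw [hc n hn' u hu] at e hcm hL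
    have hv := H.mul_mem hu hu
    obtain ⟨L, hHL, hLC, hCL, hLN⟩ := ih _ hv (h.sq_ne_one hp hu hu1)
    rw [e, hχ.isClassFunction, hcm.eq]
    refine eq_on_fpf h.pg hK hχ.isCharacter hχK hd hv (h.le_cen hv) (R := L ⊓ K)
      (le_inf inf_le_right (inf_le_left.trans hLC))
      (le_normalizer_inf hCL (le_norm_normal _ K)) (eq_bot_iff.2 fun r hr => ?_)
      ⟨hL L hHL hCL, mem_of_reg h.pg hKc hnK (hHK ▸ mem_top s) hs⟩
    rw [← hb]
    exact ⟨hLN ⟨hr.1.1, centralizer_le_normalizer _ hr.2⟩, hr.1.2⟩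
  have := hχ.charKer_normal
  let f := QuotientGroup.mk' (CL.Char.charKer χ)
  have h2 : (H.map f).Normal := ⟨by
    rintro _ ⟨u, hu, rfl⟩ g
    obtain ⟨g, rfl⟩ := QuotientGroup.mk'_surjective _ g
    refine ⟨u, hu, ?_⟩
    have h3 : f ⁅u, g⁆ = 1 :=
      (QuotientGroup.eq_one_iff _).2 (hχ.isClassFunction.commutator_mem_charKer (h1 hu) g)
    rw [map_commutatorElement, commutatorElement_eq_one_iff_mul_comm] at h3
    exact (mul_inv_eq_iff_eq_mul.2 h3.symm).symm⟩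
  have h3 : k₀ ∈ (H.map f).comap f :=
    normalClosure_le_normal (le_comap_map f H) (hn ▸ mem_top k₀)
  obtain ⟨j, hj⟩ := isPGroup_iff_forall_mem.1 (h.pg.map f) _ h3
  have h4 := eq_one_of_coprime_of_pow ((coprime_orderOf_of_mem hKc hk₀).coprime_dvd_left
    (orderOf_map_dvd f k₀)) hj
  exact hne (hχ.mem_charKer.1 ((QuotientGroup.eq_one_iff _).1 h4))

end CL.XC
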