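import Cfsg.Agent.FGS.XC.Pos

/-! The bound for the multiplicity of the trivial character of `H`. -/

set_option autoImplicit false

namespace CL.XC
open Subgroup Cfsg CL.Char CL.Blk
open scoped ComplexConjugate

variable {G : Type*} [Group G]

theorem kappa [Finite G] {χ : G → ℂ} (hχ : IsIrrCharacter G χ) {H : Subgroup G} [Fintype H]
    (hk : ∃ x ∈ H, χ x ≠ χ 1)
    (hB : ∀ g : G, ∃ n ∈ normalizer (H : Set G), ∀ x ∈ H, ∀ y ∈ H, x * (n * y * n⁻¹) ≠ 1 →
      χ (x * (g * y * g⁻¹)) = χ (x * (n * y * n⁻¹))) :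
    (∑ x : H, χ x).im = 0 ∧
      ((Fintype.card H : ℝ) - 1) * (∑ x : H, χ x).re < Fintype.card H * charDegree χ := by
  classical
  have := Fintype.ofFinite G
  have c := hχ.isCharacter
  have im : (∑ x : H, χ x).im = 0 := Complex.conj_eq_iff_im.1 (by
    rw [map_sum]
    exact Fintype.sum_equiv (Equiv.inv H) _ _ fun x => (c.apply_inv x).symm)
  refine ⟨im, ?_⟩
  have sh (x : H) : ∑ y : H, χ (x * y) = ∑ y : H, χ y := Fintype.sum_equiv (Equiv.mulLeft x) _ _ fun _ => rfl
  have sh' (x : H) : ∑ y : H, χ (x * (y : G)⁻¹) = ∑ y : H, χ y :=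
    (Fintype.sum_equiv (Equiv.inv H) _ _ fun _ => rfl).trans (sh x)
  let U : G → ℂ := fun g => ∑ x : H, ∑ y : H, χ (x * (g * y * g⁻¹))
  have h4 : χ 1 * ∑ g, U g = Fintype.card G * (∑ x : H, χ x) ^ 2 := by
    rw [Finset.sum_comm, pow_two, Finset.sum_mul_sum, Finset.mul_sum, Finset.mul_sum]
    refine Finset.sum_congr rfl fun x _ => ?_
    rw [Finset.sum_comm, Finset.mul_sum, Finset.mul_sum]
    exact Finset.sum_congr rfl fun y _ => by rw [irr_mul_sum_conj hχ, Nat.card_eq_fintype_card, mul_assoc]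
  have h3 : U 1 = Fintype.card H * ∑ x : H, χ x := by simp [U, sh]
  have h1 : (∑ x : H, χ x).re < Fintype.card H * charDegree χ := by
    obtain ⟨x, hx, e⟩ := hk
    rw [Complex.re_sum, ← nsmul_eq_mul, ← Finset.card_univ, ← Finset.sum_const]
    exact Finset.sum_lt_sum (fun y _ => c.re_le y) ⟨⟨x, hx⟩, Finset.mem_univ _,
      (c.re_le x).lt_of_ne fun k => e (c.eq_one_of_re_eq k)⟩
  have h2 (g : G) : (Fintype.card H : ℝ) ^ 2 * ((∑ x : H, χ x).re - charDegree χ) ≤ (Fintype.card H - 1) * (U g).re := by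
    obtain ⟨n, hn, k⟩ := hB g
    let e : MulAut H := H.normalizerMonoidHom ⟨n, hn⟩
    let ψ : H →* G := (MulAut.conj g).toMonoidHom.comp (H.subtype.comp e.symm.toMonoidHom)
    have e1 (y : H) : (ψ y)⁻¹ = g * (e.symm y⁻¹ : H) * g⁻¹ := (map_inv ψ y).symm
    have e2 (y : H) : n * (e.symm y⁻¹ : H) * n⁻¹ = (y : G)⁻¹ := congrArg Subtype.val (e.apply_symm_apply y⁻¹)
    have p := pos_diag hχ H.subtype ψ
    have e3 : ∑ x, ∑ y, χ (H.subtype x * (ψ y)⁻¹) = U g := Finset.sum_congr rfl fun x _ =>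
      Fintype.sum_equiv ((Equiv.inv H).trans e.symm.toEquiv) _ _ fun y => by rw [e1]; rfl
    have e4 : U g = Fintype.card H * (∑ x : H, χ x - χ 1) + ∑ x, χ (H.subtype x * (ψ x)⁻¹) := by
      rw [← e3, ← nsmul_eq_mul, ← Finset.card_univ, ← Finset.sum_const, ← Finset.sum_add_distrib]
      refine Finset.sum_congr rfl fun x _ => ?_
      rw [← sh' x, ← Finset.add_sum_erase _ _ (Finset.mem_univ x), ← Finset.add_sum_erase _ _ (Finset.mem_univ x),
        mul_inv_cancel, Finset.sum_congr rfl fun y hy => show χ (H.subtype x * (ψ y)⁻¹) = χ (x * (y : G)⁻¹) from by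
          rw [e1, ← e2]
          exact k x x.2 _ (e.symm y⁻¹).2 fun q => Finset.ne_of_mem_erase hy
            (Subtype.ext (mul_inv_eq_one.1 (e2 y ▸ q)).symm)]
      ring
    rw [e3] at p
    have e5 := congrArg Complex.re e4
    simp only [Complex.add_re, Complex.mul_re, Complex.natCast_re, Complex.natCast_im, zero_mul, sub_zero, Complex.sub_re,
      c.re_one] at e5
    rw [e5] at p ⊢
    linarith
  have h5 := congrArg Complex.re h4
  have h6 := congrArg Complex.re h3
  simp only [c.apply_one_eq_charDegree, pow_two, Complex.mul_re, Complex.natCast_re, Complex.natCast_im, zero_mul, sub_zero, im,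
    Complex.re_sum Finset.univ U] at h5 h6
  have d0 : (0 : ℝ) < charDegree χ := by exact_mod_cast hχ.charDegree_pos
  have g0 : (0 : ℝ) < Fintype.card G := by exact_mod_cast Fintype.card_pos
  have n0 : (0 : ℝ) < Fintype.card H := by exact_mod_cast Fintype.card_pos
  have h7 := Finset.sum_lt_sum (s := Finset.univ) (fun g _ => h2 g) ⟨1, Finset.mem_univ _, by rw [h6]; nlinarith⟩
  rw [Finset.sum_const, Finset.card_univ, nsmul_eq_mul, ← Finset.mul_sum] at h7
  have h8 := mul_lt_mul_of_pos_left h7 d0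
  rw [mul_left_comm _ (_ - 1), h5, mul_left_comm, mul_left_comm (_ - 1)] at h8
  have h9 := lt_of_mul_lt_mul_left h8 g0.le
  by_contra! q
  nlinarith [mul_nonneg (sub_pos.2 h1).le (sub_nonneg.2 q)]

end CL.XC
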