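import Cfsg.Agent.FGS.XC.Fus

/-! The principal block argument for an abelian `p`-subgroup. -/

set_option autoImplicit false

namespace CL.XC
open Subgroup Cfsg CL.Blk
open scoped ComplexConjugate commutatorElement

variable {G : Type*} [Group G] {p : ℕ} {M : Ideal AlgInt} {H : Subgroup G}

/-- `H` is an abelian `p`-subgroup. -/
structure Hw (p : ℕ) (H : Subgroup G) : Prop where
  pg : IsPGroup p H
  ab : ∀ x ∈ H, ∀ y ∈ H, x * y = y * x

namespace Hw

theorem ord [hp : Fact p.Prime] (h : Hw p H) {x : G} (hx : x ∈ H) :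
    ∃ k, orderOf x = p ^ k := pElt_of_mem_isPGroup hp.out h.pg hx

theorem le_cen (h : Hw p H) {v : G} (hv : v ∈ H) : H ≤ centralizer ({v} : Set G) :=
  fun x hx => mem_centralizer_singleton_iff.2 (h.ab x hx v hv)

open Classical in
theorem col_ge [Finite G] [Fact p.Prime] (hM : IsPModular p M) (h : Hw p H) {u : G} (hu : u ∈ H) :
    (Nat.card H : ℝ) ≤ ∑ χ with χ ∈ principalBlock M G, Complex.normSq (χ.1 u) := by
  have h1 := column_principal_self hM (h.ord hu)
  have h2 := pow_dvd_sum_sq (G := centralizer ({u} : Set G)) hM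
  obtain ⟨e, he⟩ := h.pg.exists_card_eq
  have h3 : p ^ e ≤ p ^ (Nat.card (centralizer ({u} : Set G))).factorization p :=
    Nat.pow_le_pow_right hM.1.pos ((hM.1.pow_dvd_iff_le_factorization Nat.card_pos.ne').1
      (he ▸ card_dvd_of_le (h.le_cen hu)))
  have h4 : ∑ χ with χ ∈ principalBlock M G, Complex.normSq (χ.1 u) =
      ((∑ χ with χ ∈ principalBlock M (centralizer ({u} : Set G)), charDegree χ.1 ^ 2 : ℕ) : ℝ) := by
    apply Complex.ofReal_injective
    push_cast
    simp only [← Complex.mul_conj]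
    rw [h1]
    exact Finset.sum_congr rfl fun χ _ => by rw [χ.2.apply_one_eq_charDegree]
  rw [h4, he]
  exact_mod_cast h3.trans h2

open Classical in
theorem col_eq [Finite G] [Fact p.Prime] (hM : IsPModular p M) (h : Hw p H) [Fintype H]
    (hB : FB p M H) {u : G} (hu : u ∈ H) (hu1 : u ≠ 1) :
    ((Finset.univ.filter fun y : H => IsConj u y).card : ℂ) *
        ∑ χ with χ ∈ principalBlock M G, χ.1 u * conj (χ.1 u) =
      ∑ χ with χ ∈ principalBlock M G, χ.1 u * conj (χ.1 u) * (∑ y : H, χ.1 y) / χ.1 1 := by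
  have hV := blockCoeff_mem_V hM (isPBlock_principalBlock (M := M) (G := G))
  have hup : p ∣ orderOf u := by_contra fun hh => hu1 (eq_one_of_pElt_of_pReg (h.ord hu) hh)
  have h1 : ∑ z : H, ∑ χ with χ ∈ principalBlock M G, χ.1 z * conj (χ.1 u) =
      ((Finset.univ.filter fun y : H => IsConj u y).card : ℂ) *
        ∑ χ with χ ∈ principalBlock M G, χ.1 u * conj (χ.1 u) := by
    rw [← nsmul_eq_mul, ← Finset.sum_const, Finset.sum_filter]
    refine Finset.sum_congr rfl fun z _ => ?_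
    split_ifs with hz
    · obtain ⟨c, hc⟩ := isConj_iff.1 hz
      exact Finset.sum_congr rfl fun χ _ => by rw [← hc, χ.2.isClassFunction]
    · exact block_orth_conj_of_int hM hV (isPPart_self hM.1 (h.ord z.2))
        (isPPart_self hM.1 (h.ord hu)) fun hc => hz hc.symm
  have h2 : ∀ g : G, ∑ y : H, ∑ χ with χ ∈ principalBlock M G,
      χ.1 (u * (g * y * g⁻¹)) * conj (χ.1 u) =
      ∑ z : H, ∑ χ with χ ∈ principalBlock M G, χ.1 z * conj (χ.1 u) := by
    intro g
    obtain ⟨n, hn, hg⟩ := hB g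
    refine Fintype.sum_bijective (fun y : H =>
      (⟨u * (n * y * n⁻¹), H.mul_mem hu ((mem_normalizer_iff.1 hn _).1 y.2)⟩ : H))
      (Finite.injective_iff_bijective.1 fun a b hab => ?_) _ _ fun y => ?_
    · simpa using hab
    · by_cases h0 : u * (n * y * n⁻¹) = 1
      · rw [weak_orth_of_int hM hV ((hg u hu y y.2).2 h0) hup, weak_orth_of_int hM hV _ hup]
        simp only [h0, orderOf_one]
        exact hM.1.not_dvd_one
      · exact Finset.sum_congr rfl fun χ hχ => by
          rw [(hg u hu y y.2).1 h0 χ (Finset.mem_filter.1 hχ).2]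
  have h3 : (Nat.card G : ℂ) ≠ 0 := Nat.cast_ne_zero.2 Nat.card_pos.ne'
  apply mul_left_cancel₀ h3
  rw [← h1]
  have := Fintype.ofFinite G
  rw [Nat.card_eq_fintype_card, ← nsmul_eq_mul, ← Finset.card_univ, ← Finset.sum_const,
    Finset.sum_congr rfl fun g _ => (h2 g).symm, Finset.sum_comm, Finset.card_univ,
    ← Nat.card_eq_fintype_card]
  simp only [Finset.sum_comm (s := (Finset.univ : Finset G))]
  rw [Finset.sum_comm, Finset.mul_sum]
  refine Finset.sum_congr rfl fun χ _ => ?_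
  have h4 : χ.1 1 ≠ 0 := by
    rw [χ.2.apply_one_eq_charDegree]; exact Nat.cast_ne_zero.2 χ.2.charDegree_pos.ne'
  rw [Finset.mul_sum, Finset.sum_div, Finset.mul_sum]
  refine Finset.sum_congr rfl fun y _ => ?_
  rw [← Finset.sum_mul]
  have h5 := irr_mul_sum_conj χ.2 u y
  field_simp
  linear_combination (conj (χ.1 u)) * h5

theorem nofus [Finite G] [Fact p.Prime] (hM : IsPModular p M) (h : Hw p H)
    (hn : normalClosure (H : Set G) = ⊤) (hB : FB p M H) {u v : G} (hu : u ∈ H) (hv : v ∈ H)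
    (huv : IsConj u v) : v = u := by
  classical
  by_contra hne
  have hu1 : u ≠ 1 := by
    rintro rfl
    exact hne (isConj_one_right.1 huv)
  have := Fintype.ofFinite H
  have h3 : (3 : ℝ) ≤ Fintype.card H := by
    have hv1 : v ≠ 1 := fun e => hu1 (isConj_one_left.1 (e ▸ huv))
    exact_mod_cast Fintype.two_lt_card_iff.2 ⟨1, ⟨u, hu⟩, ⟨v, hv⟩,
      fun e => hu1 (congrArg Subtype.val e).symm, fun e => hv1 (congrArg Subtype.val e).symm,
      fun e => hne (congrArg Subtype.val e).symm⟩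
  have hm := col_ge hM h hu
  have he := col_eq hM h hB hu hu1
  have ha : 2 ≤ (Finset.univ.filter fun y : H => IsConj u y).card :=
    Finset.one_lt_card.2 ⟨⟨u, hu⟩, Finset.mem_filter.2 ⟨Finset.mem_univ _, IsConj.refl u⟩,
      ⟨v, hv⟩, Finset.mem_filter.2 ⟨Finset.mem_univ _, huv⟩,
      fun e => hne (congrArg Subtype.val e).symm⟩
  rw [Nat.card_eq_fintype_card] at hm
  set B := Finset.univ.filter (· ∈ principalBlock M G) with hBd
  have h1B : irrOne G ∈ B := Finset.mem_filter.2 ⟨Finset.mem_univ _, irrOne_mem_principalBlock hM⟩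
  have hk : ∀ χ ∈ B.erase (irrOne G), (∑ x : H, χ.1 x).im = 0 ∧
      ((Fintype.card H : ℝ) - 1) * (∑ x : H, χ.1 x).re < Fintype.card H * charDegree χ.1 := by
    intro χ hχ
    refine kappa χ.2 (exists_ne_of_ne_one hn (Finset.mem_erase.1 hχ).1) fun g => ?_
    obtain ⟨n, hn', hg⟩ := hB g
    exact ⟨n, hn', fun x hx y hy h0 => (hg x hx y hy).1 h0 χ
      (Finset.mem_filter.1 (Finset.mem_erase.1 hχ).2).2⟩
  have e1 : ((Finset.univ.filter fun y : H => IsConj u y).card : ℝ) *
      ∑ χ ∈ B, Complex.normSq (χ.1 u) = Fintype.card H + ∑ χ ∈ B.erase (irrOne G),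
        Complex.normSq (χ.1 u) * (∑ x : H, χ.1 x).re / charDegree χ.1 := by
    apply Complex.ofReal_injective
    push_cast
    simp only [← Complex.mul_conj]
    rw [he, ← Finset.add_sum_erase _ _ h1B]
    congr 1
    · simp [irrOne_apply]
    · refine Finset.sum_congr rfl fun χ hχ => ?_
      rw [χ.2.apply_one_eq_charDegree, Complex.conj_eq_iff_re.1 (Complex.conj_eq_iff_im.2
        (hk χ hχ).1)]
  have e2 : ∑ χ ∈ B, Complex.normSq (χ.1 u) =
      1 + ∑ χ ∈ B.erase (irrOne G), Complex.normSq (χ.1 u) := by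
    rw [← Finset.add_sum_erase _ _ h1B]; simp [irrOne_apply]
  obtain ⟨χ₀, hχ₀, h0⟩ : ∃ χ ∈ B.erase (irrOne G), 0 < Complex.normSq (χ.1 u) := by
    by_contra hc
    push Not at hc
    have := Finset.sum_nonpos hc
    linarith
  have hd : ∀ χ : IrrCharacter G, (0 : ℝ) < charDegree χ.1 := fun χ =>
    Nat.cast_pos.2 χ.2.charDegree_pos
  have e3 : ((Fintype.card H : ℝ) - 1) * ∑ χ ∈ B.erase (irrOne G),
      Complex.normSq (χ.1 u) * (∑ x : H, χ.1 x).re / charDegree χ.1 <
      Fintype.card H * ∑ χ ∈ B.erase (irrOne G), Complex.normSq (χ.1 u) := by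
    rw [Finset.mul_sum, Finset.mul_sum]
    refine Finset.sum_lt_sum (fun χ hχ => ?_) ⟨χ₀, hχ₀, ?_⟩
    · rw [← mul_div_assoc, div_le_iff₀ (hd χ)]
      nlinarith [mul_le_mul_of_nonneg_left (hk χ hχ).2.le (Complex.normSq_nonneg (χ.1 u))]
    · rw [← mul_div_assoc, div_lt_iff₀ (hd χ₀)]
      nlinarith [mul_lt_mul_of_pos_left (hk χ₀ hχ₀).2 h0]
  have ha' : (2 : ℝ) ≤ (Finset.univ.filter fun y : H => IsConj u y).card := by exact_mod_cast ha
  generalize ((Finset.univ.filter fun y : H => IsConj u y).card : ℝ) = a at *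
  generalize ∑ χ ∈ B.erase (irrOne G),
      Complex.normSq (χ.1 u) * (∑ x : H, χ.1 x).re / charDegree χ.1 = X at *
  generalize ∑ χ ∈ B.erase (irrOne G), Complex.normSq (χ.1 u) = Y at *
  generalize ∑ χ ∈ B, Complex.normSq (χ.1 u) = m at *
  generalize (Fintype.card H : ℝ) = c at *
  have e4 : 2 * m ≤ c + X := by nlinarith
  nlinarith [mul_le_mul_of_nonneg_left e4 (by linarith : 0 ≤ c - 1),
    mul_le_mul_of_nonneg_left hm (by linarith : 0 ≤ c - 2)]

theorem sq_ne_one [Finite G] [hp : Fact p.Prime] (hp2 : p ≠ 2) (h : Hw p H) {u : G}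
    (hu : u ∈ H) (hu1 : u ≠ 1) : u * u ≠ 1 := fun h2 => by
  have h1 : p ∣ orderOf u := by_contra fun hh => hu1 (eq_one_of_pElt_of_pReg (h.ord hu) hh)
  have h3 := h1.trans (orderOf_dvd_of_pow_eq_one (n := 2) (by rw [sq, h2]))
  exact hp2 ((Nat.prime_dvd_prime_iff_eq hp.out Nat.prime_two).1 h3)

theorem comm_mem [Finite G] [Fact p.Prime] (hp : p ≠ 2) (hM : IsPModular p M) (h : Hw p H)
    (hn : normalClosure (H : Set G) = ⊤) (hB : FB p M H) (P : Sylow p G)
    (hP : (P : Subgroup G) ≤ normalizer (H : Set G)) {u : G} (hu : u ∈ H) (g : G) :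
    ⁅u, g⁆ ∈ pPrimeCore p G := by
  have hc : ∀ n ∈ normalizer (H : Set G), ∀ y ∈ H, n * y * n⁻¹ = y := fun n hn' y hy =>
    nofus hM h hn hB hy ((mem_normalizer_iff.1 hn' y).1 hy) (isConj_iff.2 ⟨n, rfl⟩)
  rw [← blockKerSub_principal hM, mem_blockKerSub]
  intro χ hχ
  refine χ.2.mem_charKer.1 (χ.2.isClassFunction.commutator_mem_charKer
    (scalar χ.2 (H := H) (fun y hy => ?_) (fun y hy t => ?_) hu) g)
  · exact principal_apply_ne_zero' hM hχ (not_dvd_index_centralizer_of_sylow P fun x hx =>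
      mul_inv_eq_iff_eq_mul.1 (hc x (hP hx) y hy))
  · by_cases hy1 : y = 1
    · simp [hy1]
    obtain ⟨n, hn', hg⟩ := hB t
    have := (hg y hy y hy).1
    rw [hc n hn' y hy] at this
    exact this (h.sq_ne_one hp hy hy1) χ hχ

end Hw

end CL.XC
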