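import Cfsg.Agent.BLK.GPgroup

/-! Values of an extension of an invariant character on the coset of a coprime element. -/

set_option autoImplicit false

namespace CL.XC
open Subgroup Cfsg CL.Char

variable {G : Type*} [Group G]

/-- Glauberman's lemma. Proof: `CL.Glb.exists_cyc` (BLK/GCyclic) with the ambient group
`K ⊔ zpowers v`, `ι = inclusion`, `j = inclusion : K ⊓ C(v) → K`, `s = v` (`gen_inclusion`,
`inclusion_range_normal` in BLK/GPgroup; the `TI` condition for `v ^ k`, `k` prime to the order, is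
`conj_eq_of_coprime` followed by `C(v ^ k) = C(v)`, or `mem_of_conj_coset` with `N = ⊥`; see the
proof of `corr_zpowers`). `Cyc.exists_down` and `Cyc.eq_on_coset` give an irreducible `η'` of
`D = ⟨C, v⟩` with irreducible restriction `η` to `C` and `χ (c v) = w η' (c v)`. As `v` is central in
`D`, it lies in `charCenter η'`, so `η' (c v) = (η' v / η' 1) η' c` (`apply_mul_of_mem_charCenter`). -/
theorem coset [Finite G] {K : Subgroup G} [K.Normal] {v : G}
    (hv : (Nat.card K).Coprime (orderOf v)) {χ : G → ℂ} (hχ : IsCharacter G χ)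
    (hK : IsIrrCharacter K fun k => χ k) :
    ∃ η : ↥(K ⊓ centralizer ({v} : Set G)) → ℂ, IsIrrCharacter _ η ∧
      ∃ ω : ℂ, ∀ c : ↥(K ⊓ centralizer ({v} : Set G)), χ (c * v) = ω * η c := by
  have := Fintype.ofFinite K
  have := Fintype.ofFinite ↥(K ⊓ centralizer ({v} : Set G))
  have hn : v ∈ normalizer (K : Set G) := le_normalizer_of_normal (mem_top v)
  have := Glb.inclusion_range_normal (le_sup_left : K ≤ K ⊔ zpowers v) le_normalizer_of_normal
  have cm : ∀ c : ↥(K ⊓ centralizer ({v} : Set G)), (c : G) * v = v * c :=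
    fun c => mem_centralizer_singleton_iff.1 c.2.2
  obtain ⟨D, ι', s, _, hs, h⟩ := Glb.exists_cyc (inclusion_injective _)
    (inclusion_injective (inf_le_left : K ⊓ centralizer ({v} : Set G) ≤ K)) (Glb.gen_inclusion hn)
    (fun c => ⟨c, Subtype.ext (mul_inv_eq_of_eq_mul (cm c).symm)⟩) fun k hk g c c' e => by
      rw [← orderOf_coe] at hk
      exact ⟨⟨g, Glb.mem_of_conj_coset (N := ⊥) le_normalizer_of_normal (le_normalizer_of_normal (mem_top v)) hv
        (fun g hg => mem_bot.2 (congrArg Subtype.val (pow_card_eq_one' (x := (⟨g, hg⟩ : K)))))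
        (mem_bot.2 (pow_orderOf_eq_one v)) (fun k => by
          rw [mem_inf, mem_centralizer_singleton_iff, mem_bot, mul_inv_eq_one, mul_inv_eq_iff_eq_mul, eq_comm])
        hk g.2 c.2 c'.2 (congrArg Subtype.val e)⟩, rfl⟩
  have hφ := hχ.comp (K ⊔ zpowers v).subtype
  obtain ⟨η, h1, h2, h3⟩ := h.exists_down hφ hK
  have sv : ((s : ↥(K ⊔ zpowers v)) : G) = v := congrArg Subtype.val hs
  have cs : ∀ c, ι' c * s = s * ι' c := fun c => Subtype.ext (Subtype.ext (by
    simp only [coe_mul, h.comm, sv]; exact cm c))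
  have z : s ∈ center D := mem_center_iff.2 fun d => by
    obtain ⟨c, k, rfl⟩ := h.gen' d
    exact (Commute.mul_left (cs c) ((Commute.refl s).pow_left k)).eq
  obtain ⟨a, -, ha⟩ := mem_charCenter_iff.1 (h1.center_le_charCenter z)
  refine ⟨_, h2, Glb.tw ι' (fun d => χ ((K ⊔ zpowers v).subtype d)) η s * a, fun c => ?_⟩
  have e := h.eq_on_coset hφ hK h1.isCharacter h2 h3 c
  rw [mul_assoc, ← ha, ← cs, ← e]
  simp only [coe_mul, h.comm, subtype_apply, sv]
  rfl

end CL.XC
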