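import Cfsg.Agent.FGS.XC.Cop
import Cfsg.Agent.S0942

/-! The two inductions. -/

set_option autoImplicit false

namespace CL.XC
open Subgroup Cfsg CL.Blk CL.MSS CL.PComp
open scoped commutatorElement

universe u

section
variable {G : Type*} [Group G] [Finite G] {p : ℕ} [hp' : Fact p.Prime] {H : Subgroup G}

theorem Hy.cj_le (h : Hy p H) {g : G} {L : Subgroup G} (hL : H ≤ L)
    (hn : H ⊔ g •ᶜ H ≤ normalizer (L : Set G)) : g •ᶜ H ≤ L := by
  obtain ⟨K, hK, hXK, hHK⟩ := h.compl g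
  have hKX : K ≤ H ⊔ g •ᶜ H := hHK ▸ le_sup_right
  obtain ⟨e, he⟩ := h.pg.exists_card_eq
  have : Group.IsNilpotent H := h.pg.isNilpotent
  have h3 := CL.coprime_commutator_sup_centralizer H K (le_sup_left.trans hXK) (by
    rw [he]
    exact hK.symm.pow_left e) (Or.inl inferInstance)
  refine le_sup_right.trans (hHK.ge.trans (sup_le hL (h3.ge.trans (sup_le ?_ fun d hd => ?_))))
  · exact commutator_le.2 fun d hd a ha =>
      mul_mem (conj_mem_of_normalizes hn (hKX hd) (hL ha)) (inv_mem (hL ha))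
  · exact hL (h.ec g d (hKX hd.1) (centralizer_le_normalizer _ hd.2))

theorem Hy.ncl_le (h : Hy p H) {L : Subgroup G} (hL : H ≤ L)
    (hn : normalClosure (H : Set G) ≤ normalizer (L : Set G)) : normalClosure (H : Set G) ≤ L := by
  refine (closure_le _).2 fun x hx => ?_
  obtain ⟨y, hy, hc⟩ := Group.mem_conjugatesOfSet_iff.1 hx
  obtain ⟨g, rfl⟩ := isConj_iff.1 hc
  refine h.cj_le hL ((sup_le le_normalClosure ?_).trans hn) (conj_mem_cj hy)
  exact (cj_mono g le_normalClosure).trans (cj_eq_of_normal g _).le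

theorem core_mul {D : Subgroup G} [D.Normal] (hD : IsPGroup p D) (hc : D ≤ center G) :
    pPrimeCore p (G ⧸ D) ≤ (pPrimeCore p G).map (QuotientGroup.mk' D) := by
  intro y hy
  obtain ⟨y, rfl⟩ := QuotientGroup.mk'_surjective D y
  set X := (pPrimeCore p (G ⧸ D)).comap (QuotientGroup.mk' D)
  have h1 : ¬ p ∣ (D.subgroupOf X).index := by
    have := relIndex_ker (K := X) (QuotientGroup.mk' D)
    rw [QuotientGroup.ker_mk', map_comap_eq_self_of_surjective (QuotientGroup.mk'_surjective _)]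
      at this
    rw [← relIndex, this]
    exact CL.not_dvd_card_pPrimeCore p _
  have hc := CL.Misc.burnside_pPrimeCore
    ((hD.comap_of_injective X.subtype X.subtype_injective).toSylow h1)
    fun n _ x hx => Subtype.ext (mem_center_iff.1 (hc hx) n).symm
  obtain ⟨⟨o, d⟩, e⟩ := hc.2 ⟨y, hy⟩
  refine ⟨o, ((CL.map_pPrimeCore_of_normal X).le ⟨_, o.2, rfl⟩).1, ?_⟩
  rw [show y = (o : X) * (d : X) from (congrArg Subtype.val e).symm, map_mul,
    show QuotientGroup.mk' D (d : X) = 1 from (QuotientGroup.eq_one_iff _).2 d.2, mul_one]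

omit [Finite G] hp' in
theorem lift1 {Y : Subgroup G} (hY : H ≤ Y)
    (h : normalClosure (H.subgroupOf Y : Set Y) ≤ H.subgroupOf Y ⊔ pPrimeCore p Y) :
    Y ≤ normalizer ((H ⊔ opOf p Y : Subgroup G) : Set G) := by
  refine le_normalizer_of_cj_le fun c hc => ?_
  rw [cj_sup, cj_eq_of_mem_normalizer (le_normalizer_opOf p Y hc)]
  refine sup_le (cj_le_iff_forall.2 fun y hy => ?_) le_sup_right
  have h1 : (H.subgroupOf Y ⊔ pPrimeCore p Y).map Y.subtype ≤ H ⊔ opOf p Y := by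
    rw [Subgroup.map_sup, subgroupOf_map_subtype, inf_eq_left.2 hY, opOf_def]
  exact h1 ⟨_, h (normalClosure_normal.conj_mem ⟨y, hY hy⟩ (le_normalClosure hy) ⟨c, hc⟩), rfl⟩

omit [Finite G] in
theorem lift2 {Y : Subgroup G} (hY : H ≤ Y) (h : normalClosure (H.subgroupOf Y : Set Y) ⊓
      normalizer (H.subgroupOf Y : Set Y) ≤ H.subgroupOf Y) :
    ∃ L : Subgroup G, H ≤ L ∧ L ≤ Y ∧ Y ≤ normalizer (L : Set G) ∧
      L ⊓ normalizer (H : Set G) ≤ H := by
  refine ⟨(normalClosure (H.subgroupOf Y : Set Y)).map Y.subtype,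
    fun y hy => ⟨⟨y, hY hy⟩, le_normalClosure hy, rfl⟩, map_subtype_le _,
    le_normalizer_of_cj_le fun c hc => cj_le_iff_forall.2 ?_, ?_⟩
  · rintro _ ⟨y, hy, rfl⟩
    exact ⟨_, normalClosure_normal.conj_mem y hy ⟨c, hc⟩, rfl⟩
  · rintro _ ⟨⟨y, hy, rfl⟩, hn⟩
    exact h ⟨hy, mem_normalizer_iff.2 fun a => mem_normalizer_iff.1 hn a⟩

omit hp' in
theorem card_lt_of_ne_top {Y : Subgroup G} (hY : Y ≠ ⊤) : Nat.card Y < Nat.card G :=
  lt_of_le_of_ne (card_le_card_group Y) fun e => hY (eq_top_of_card_eq Y e)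

omit hp' in
theorem card_quot_lt {u : G} (hu : u ≠ 1) [(zpowers u).Normal] :
    Nat.card (G ⧸ zpowers u) < Nat.card G := by
  rw [card_eq_card_quotient_mul_card_subgroup (zpowers u)]
  exact lt_mul_of_one_lt_right Nat.card_pos ((one_lt_card_iff_ne_bot _).2 (by simpa using hu))

omit [Finite G] in
theorem zpowers_le_center {u : G} (hu : centralizer ({u} : Set G) = ⊤) : zpowers u ≤ center G :=
  zpowers_le.2 (mem_center_iff.2 fun g => mem_centralizer_singleton_iff.1 (hu ▸ mem_top g))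

omit [Finite G] in
theorem zpowers_normal {u : G} (hu : centralizer ({u} : Set G) = ⊤) : (zpowers u).Normal :=
  ⟨fun x hx g => by rwa [mem_center_iff.1 (zpowers_le_center hu hx) g, mul_inv_cancel_right]⟩

end

theorem main1 {p : ℕ} [hp' : Fact p.Prime] (hp : p ≠ 2) (n : ℕ) : ∀ (G : Type u) [Group G]
    [Finite G], Nat.card G = n → ∀ H : Subgroup G, Hy p H →
      normalClosure (H : Set G) ≤ H ⊔ pPrimeCore p G := by
  induction n using Nat.strong_induction_on with
  | _ n ih =>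
  intro G _ _ hG H h
  subst hG
  have sub : ∀ Y : Subgroup G, H ≤ Y → Y ≠ ⊤ →
      Y ≤ normalizer ((H ⊔ opOf p Y : Subgroup G) : Set G) := fun Y hY hne =>
    lift1 hY (ih _ (card_lt_of_ne_top hne) Y rfl _ (h.sub hY))
  by_cases hn : normalClosure (H : Set G) = ⊤
  swap
  · refine (h.ncl_le le_sup_left (sub _ le_normalClosure hn)).trans (sup_le_sup_left ?_ _)
    rw [← opOf_top]
    exact opOf_le_opOf_of_normal_in le_top (le_norm_normal _ _)
  by_cases hz : ∃ u ∈ H, u ≠ 1 ∧ centralizer ({u} : Set G) = ⊤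
  · obtain ⟨u, hu, hu1, hc⟩ := hz
    have := zpowers_normal hc
    have hZ : zpowers u ≤ H := zpowers_le.2 hu
    have h1 := ih _ (card_quot_lt hu1) _ rfl _ (h.quot _ hZ)
    have h2 := h1.trans (sup_le_sup_left (core_mul (h.pg.to_le hZ) (zpowers_le_center hc)) _)
    rw [← Subgroup.map_sup, coe_map, ← map_normalClosure _ _ (QuotientGroup.mk'_surjective _),
      map_le_iff_le_comap, comap_map_eq, QuotientGroup.ker_mk'] at h2
    exact h2.trans (sup_le le_rfl (hZ.trans le_sup_left))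
  push Not at hz
  obtain ⟨M, hM⟩ := CL.Glb.exists_isPModular hp'.out
  have hB : FB p M H := by
    intro g
    obtain ⟨n, hn', hg⟩ := h.lemA g
    refine ⟨n, hn', fun x hx y hy => ?_⟩
    obtain ⟨s, t, e, hcm, hs, hL⟩ := hg x hx y hy
    have hv : x * (n * y * n⁻¹) ∈ H := H.mul_mem hx ((mem_normalizer_iff.1 hn' y).1 hy)
    refine ⟨fun h1 χ hχ => ?_, fun h1 => by rwa [e, h1, one_mul, orderOf_conj']⟩
    rw [e, χ.2.isClassFunction]
    refine Cfsg.Agent.S0942.result p M hM _ (h.ord hv) s ?_ χ hχ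
    rw [centralizerPPrimeCore_eq]
    exact mem_of_reg h.pg (opOf_coprime p _) ((h.le_cen hv).trans (le_normalizer_opOf p _))
      (hL _ le_sup_left (sub _ (h.le_cen hv) (hz _ hv h1))) hs
  refine (closure_le _).2 fun x hx => ?_
  obtain ⟨y, hy, hc⟩ := Group.mem_conjugatesOfSet_iff.1 hx
  obtain ⟨g, rfl⟩ := isConj_iff.1 hc
  have e : g * y * g⁻¹ = ⁅y, g⁆⁻¹ * y := by rw [commutatorElement_def]; group
  rw [e]
  exact mul_mem (mem_sup_right (inv_mem (comm_mem hp hM h hn hB hy g))) (mem_sup_left hy)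

theorem main2 {p : ℕ} [hp' : Fact p.Prime] (hp : p ≠ 2) (n : ℕ) : ∀ (G : Type u) [Group G]
    [Finite G], Nat.card G = n → ∀ H : Subgroup G, Hy p H →
      normalClosure (H : Set G) ⊓ normalizer (H : Set G) ≤ H := by
  induction n using Nat.strong_induction_on with
  | _ n ih =>
  intro G _ _ hG H h
  subst hG
  have sub := fun (Y : Subgroup G) (hY : H ≤ Y) (hne : Y ≠ ⊤) =>
    lift2 hY (ih _ (card_lt_of_ne_top hne) Y rfl _ (h.sub hY))
  by_cases hn : normalClosure (H : Set G) = ⊤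
  swap
  · obtain ⟨L, h1, -, h3, h4⟩ := sub _ le_normalClosure hn
    exact (inf_le_inf_right _ (h.ncl_le h1 h3)).trans h4
  by_cases hz : ∃ u ∈ H, u ≠ 1 ∧ centralizer ({u} : Set G) = ⊤
  · obtain ⟨u, hu, hu1, hc⟩ := hz
    have := zpowers_normal hc
    have hZ : zpowers u ≤ H := zpowers_le.2 hu
    have h1 := ih _ (card_quot_lt hu1) _ rfl _ (h.quot _ hZ)
    rw [coe_map, ← map_normalClosure _ _ (QuotientGroup.mk'_surjective _), ← coe_map] at h1
    intro x hx
    have h2 : x ∈ (H.map (QuotientGroup.mk' (zpowers u))).comap (QuotientGroup.mk' _) :=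
      h1 ⟨⟨x, hx.1, rfl⟩, le_normalizer_map _ ⟨x, hx.2, rfl⟩⟩
    rwa [comap_map_eq, QuotientGroup.ker_mk', sup_eq_left.2 hZ] at h2
  push Not at hz
  refine inf_le_right.trans (cop hp h (CL.not_dvd_card_pPrimeCore p G)
    (top_le_iff.1 (hn ▸ main1 hp _ G rfl H h)) hn fun v hv h1 => ?_)
  exact sub _ (h.le_cen hv) (hz v hv h1)

end CL.XC
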