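import Cfsg.Agent.FGS.XC.Ind
import Cfsg.Agent.FGS.XC.Fus2
import Cfsg.Agent.SOLV.PSolvable
import Cfsg.Agent.INV.BaerSuzuki

/-! Classes of `p`-elements which commute modulo `p'`-subgroups. -/

set_option autoImplicit false

namespace CL.XC
open Subgroup Cfsg CL.Blk CL.MSS CL.PComp
open scoped commutatorElement

variable {G : Type*} [Group G] [Finite G] {p : ℕ} [hp : Fact p.Prime]

omit hp in
theorem core_reg {c : G} (hc : c ∈ pCore p G) (ho : (orderOf c).Coprime p) : c = 1 := by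
  obtain ⟨k, hk⟩ := isPGroup_iff_forall_mem.1 (CL.isPGroup_pCore p G) c hc
  exact eq_one_of_coprime_of_pow ho hk

theorem step2core (hG : IsPSolvable p G) (h0 : pPrimeCore p G = ⊥) {a : G} {R E : Subgroup G}
    (hR : R ≤ pCore p G) (hq : ∀ q ∈ pCore p G, ⁅q, a⁆ ∈ R) (hE : (Nat.card E).Coprime p)
    (hRE : R ≤ normalizer (E : Set G)) (ha : a ∈ normalizer (E : Set G)) {e : G} (he : e ∈ E) :
    ⁅e, a⁆ = 1 := by
  have hN : (pCore p G).Normal := inferInstance
  have hc : ∀ e ∈ E, ∀ r ∈ R, e * r * e⁻¹ = r := fun e he r hr => by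
    have h1 : r⁻¹ * e * r * e⁻¹ ∈ E := mul_mem (conj_mem_of_normalizes' hRE hr he) (inv_mem he)
    have h2 : r⁻¹ * e * r * e⁻¹ ∈ pCore p G := by
      have := mul_mem (inv_mem (hR hr)) (hN.conj_mem r (hR hr) e)
      simpa [mul_assoc] using this
    have h3 := core_reg h2 (coprime_orderOf_of_mem hE h1)
    calc e * r * e⁻¹ = r * (r⁻¹ * e * r * e⁻¹) := by group
      _ = r := by rw [h3, mul_one]
  have hcE : ⁅e, a⁆ ∈ E := by
    have := mul_mem he ((mem_normalizer_iff.1 ha e⁻¹).1 (inv_mem he))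
    simpa [commutatorElement_def, mul_assoc] using this
  refine core_reg (CL.IsPSolvable.centralizer_pCore_le hG h0
    (mem_centralizer_iff.2 fun q hq' => ?_)) (coprime_orderOf_of_mem hE hcE)
  have h1 : a⁻¹ * q * a ∈ pCore p G := hN.conj_mem' q hq' a
  have h2 : e⁻¹ * (a⁻¹ * q * a) * e ∈ pCore p G := hN.conj_mem' _ h1 e
  have hw : (⁅e⁻¹ * (a⁻¹ * q * a) * e, a⁆)⁻¹ * ⁅a⁻¹ * q * a, a⁆ ∈ R :=
    mul_mem (inv_mem (hq _ h2)) (hq _ h1)
  have e1 : ⁅e, a⁆ * q * ⁅e, a⁆⁻¹ =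
      (⁅e⁻¹ * (a⁻¹ * q * a) * e, a⁆)⁻¹ * ⁅a⁻¹ * q * a, a⁆ * q := by
    rw [← hc e he _ (inv_mem (hq _ h2))]
    simp only [commutatorElement_def]
    group
  generalize (⁅e⁻¹ * (a⁻¹ * q * a) * e, a⁆)⁻¹ * ⁅a⁻¹ * q * a, a⁆ = w at hw e1
  generalize ⁅e, a⁆ = c at hcE e1 ⊢
  have h3 : ∀ n : ℕ, c ^ n * q * (c ^ n)⁻¹ = w ^ n * q := by
    intro n
    induction n with
    | zero => simp
    | succ n ih =>
      calc c ^ (n + 1) * q * (c ^ (n + 1))⁻¹ = c * (c ^ n * q * (c ^ n)⁻¹) * c⁻¹ := by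
            rw [pow_succ']; group
        _ = c * w ^ n * c⁻¹ * (c * q * c⁻¹) := by rw [ih]; group
        _ = _ := by rw [hc c hcE _ (pow_mem hw n), e1, pow_succ, mul_assoc]
  have h4 := h3 (orderOf c)
  rw [pow_orderOf_eq_one, one_mul, inv_one, mul_one, eq_comm, mul_eq_right] at h4
  have h5 : w = 1 := core_reg (hR hw)
    ((coprime_orderOf_of_mem hE hcE).coprime_dvd_left (orderOf_dvd_of_pow_eq_one h4))
  rw [h5, one_mul] at e1
  exact (mul_inv_eq_iff_eq_mul.1 e1).symm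

theorem mem_core_of_reg {c : G} (hc : c ∈ pPrimePCore p G) (ho : ¬ p ∣ orderOf c) :
    c ∈ pPrimeCore p G := by
  obtain ⟨S⟩ : Nonempty (Sylow p G) := inferInstance
  rw [← CL.pPrimeCore_sup_sylow_inf S, sup_comm] at hc
  exact mem_of_reg (S.isPGroup'.to_le inf_le_left) (CL.coprime_card_pPrimeCore p G)
    (le_norm_normal _ _) hc ho

/-- A `p'`-subgroup normalized by a Sylow `p`-subgroup of a `p`-solvable group. -/
theorem le_core_of_sylow (hG : IsPSolvable p G) (S : Sylow p G) {E : Subgroup G}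
    (hE : (Nat.card E).Coprime p) (hS : (S : Subgroup G) ≤ normalizer (E : Set G)) :
    E ≤ pPrimeCore p G := by
  have hr : ∀ e ∈ E, ¬ p ∣ orderOf e := fun e he =>
    coprime_card_iff_not_dvd.1 (coprime_orderOf_of_mem hE he)
  have hO : (pPrimeCore p G).Normal := inferInstance
  have hF : (pPrimePCore p G).Normal := inferInstance
  refine fun e he => mem_core_of_reg (CL.IsPSolvable.le_pPrimePCore_of_commutator_le hG
    (commutator_le.2 fun x hx y hy => ?_) he) (hr e he)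
  rw [← CL.pPrimeCore_sup_sylow_inf S] at hy
  obtain ⟨o, ho, q, hq, rfl⟩ := (mem_sup_of_normalizes_left (le_norm_normal _ _)).1 hy
  have h1 : x * q * x⁻¹ * q⁻¹ ∈ pPrimeCore p G := by
    refine mem_core_of_reg (mul_mem (hF.conj_mem q hq.2 x) (inv_mem hq.2)) (hr _ ?_)
    have := mul_mem hx (conj_mem_of_normalizes hS hq.1 (inv_mem hx))
    simpa [mul_assoc] using this
  have e : ⁅x, o * q⁆ = x * o * x⁻¹ * (x * q * x⁻¹ * q⁻¹) * o⁻¹ := by
    rw [commutatorElement_def]; group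
  rw [e]
  exact mul_mem (mul_mem (hO.conj_mem o ho x) h1) (inv_mem ho)

theorem le_opOf_of_sylIn {C Q E : Subgroup G} (hC : IsPSolvable p C) (hQ : SylIn p Q C)
    (hE : (Nat.card E).Coprime p) (hn : Q ≤ normalizer (E : Set G)) : E ⊓ C ≤ opOf p C := by
  intro e he
  refine (mem_opOf (⟨e, he.2⟩ : C)).2 (le_core_of_sylow hC hQ.toSylow (E := E.subgroupOf C)
    (coprime_card_of_le (N := E) (H := (E.subgroupOf C).map C.subtype) (map_comap_le _ _) hE
      |>.coprime_dvd_left (by rw [card_map_of_injective C.subtype_injective]))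
    (fun x hx => mem_normalizer_iff.2 fun a => mem_normalizer_iff.1 (hn hx) a) he.1)

theorem comm_core (hG : IsPSolvable p G) (S T : Sylow p G) {a b : G}
    (ha : a ∈ centralizer ((S : Subgroup G) : Set G))
    (hb : b ∈ centralizer ((T : Subgroup G) : Set G)) : ⁅b, a⁆ ∈ pPrimeCore p G := by
  have hO : (pPrimeCore p G).Normal := inferInstance
  have h1 := CL.IsPSolvable.centralizer_sylow_le hG S ha
  rw [← CL.pPrimeCore_sup_sylow_inf T] at h1
  obtain ⟨o, ho, q, hq, rfl⟩ := (mem_sup_of_normalizes_left (le_norm_normal _ _)).1 h1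
  have e : ⁅b, o * q⁆ = b * o * b⁻¹ * o⁻¹ := by
    calc ⁅b, o * q⁆ = b * o * (q * b⁻¹) * q⁻¹ * o⁻¹ := by rw [commutatorElement_def]; group
      _ = _ := by rw [inv_mem hb q hq.1]; group
  rw [e]
  exact mul_mem (hO.conj_mem o ho b) (inv_mem ho)

/-- A normal set of `p`-elements whose commutators lie in well normalized `p'`-subgroups. -/
structure Ds (p : ℕ) (D : Set G) : Prop where
  cj : ∀ a ∈ D, ∀ g : G, g * a * g⁻¹ ∈ D
  ord : ∀ a ∈ D, ∃ k, orderOf a = p ^ k
  s1 : ∀ a ∈ D, ∀ b ∈ D, ∀ R : Subgroup G, IsPGroup p R → R ≤ centralizer ({a} : Set G) →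
    ∃ E : Subgroup G, (Nat.card E).Coprime p ∧ R ≤ normalizer (E : Set G) ∧
      a ∈ normalizer (E : Set G) ∧ ⁅b, a⁆ ∈ E

variable {D : Set G}

omit [Finite G] hp in
theorem Ds.sub (h : Ds p D) (Y : Subgroup G) : Ds p (Y.subtype ⁻¹' D) := by
  refine ⟨fun a ha g => h.cj _ ha g, fun a ha => by simpa using h.ord _ ha,
    fun a ha b hb R hR hc => ?_⟩
  obtain ⟨E, h1, h2, h3, h4⟩ := h.s1 _ ha _ hb (R.map Y.subtype) (hR.map _) (by
    rintro _ ⟨r, hr, rfl⟩
    exact mem_centralizer_singleton_iff.2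
      (congrArg Subtype.val (mem_centralizer_singleton_iff.1 (hc hr))))
  exact ⟨E.subgroupOf Y, (coprime_card_of_le (N := E) (H := (E.subgroupOf Y).map Y.subtype)
    (map_comap_le _ _) h1).coprime_dvd_left
      (by rw [card_map_of_injective Y.subtype_injective]),
    fun r hr => mem_normalizer_iff.2 fun x => mem_normalizer_iff.1 (h2 ⟨r, hr, rfl⟩) x,
    mem_normalizer_iff.2 fun x => mem_normalizer_iff.1 h3 x, h4⟩

theorem Ds.comm (h : Ds p D) {T : Subgroup G} (hT : IsPGroup p T) {a b : G} (ha : a ∈ D)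
    (hb : b ∈ D) (haT : a ∈ T) (hbT : b ∈ T) : b * a = a * b := by
  obtain ⟨E, h1, -, -, h4⟩ := h.s1 a ha b hb ⊥ IsPGroup.of_bot bot_le
  have h5 : ⁅b, a⁆ ∈ T ⊓ E :=
    ⟨T.mul_mem (T.mul_mem (T.mul_mem hbT haT) (T.inv_mem hbT)) (T.inv_mem haT), h4⟩
  rw [inf_eq_bot_of_isPGroup_of_coprime hT h1, mem_bot] at h5
  exact commutatorElement_eq_one_iff_mul_comm.1 h5

theorem Ds.mod (h : Ds p D) (hG : IsPSolvable p G) {a b : G} (ha : a ∈ D) (hb : b ∈ D) :
    ⁅b, a⁆ ∈ pPrimeCore p G := by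
  obtain ⟨T, hT⟩ := (isPGroup_zpowers_of_pElt (h.ord a ha)).exists_le_sylow
  have haT : a ∈ (T : Subgroup G) := hT (mem_zpowers a)
  have hF : (pPrimePCore p G).Normal := inferInstance
  obtain ⟨E, h1, h2, h3, h4⟩ := h.s1 a ha b hb
    (((T : Subgroup G) ⊓ pPrimePCore p G) ⊓ centralizer ({a} : Set G))
    (T.isPGroup'.to_le (inf_le_left.trans inf_le_left)) inf_le_right
  let f := QuotientGroup.mk' (pPrimeCore p G)
  have h5 := step2core (CL.IsPSolvable.quotient hG _) (pPrimeCore_quotient p) (a := f a)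
    (R := (((T : Subgroup G) ⊓ pPrimePCore p G) ⊓ centralizer ({a} : Set G)).map f) (E := E.map f)
    ((map_mono (inf_le_left.trans inf_le_right)).trans CL.map_mk'_pPrimePCore.le) (by
      intro q hq
      rw [← CL.map_mk'_pPrimePCore, ← CL.pPrimeCore_sup_sylow_inf T] at hq
      obtain ⟨q', hq', rfl⟩ := hq
      obtain ⟨o, ho, q, hq, rfl⟩ := (mem_sup_of_normalizes_left (le_norm_normal _ _)).1 hq'
      have e : QuotientGroup.mk' (pPrimeCore p G) o = 1 := (QuotientGroup.eq_one_iff _).2 ho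
      rw [map_mul, e, one_mul, ← map_commutatorElement]
      have hqa : q * a * q⁻¹ ∈ (T : Subgroup G) := mul_mem (mul_mem hq.1 haT) (inv_mem hq.1)
      refine ⟨_, ⟨⟨(T : Subgroup G).mul_mem hqa ((T : Subgroup G).inv_mem haT), ?_⟩,
        mem_centralizer_singleton_iff.2 ?_⟩, rfl⟩
      · have := mul_mem hq.2 (hF.conj_mem _ (inv_mem hq.2) a)
        simpa [commutatorElement_def, mul_assoc] using this
      · have := h.comm T.isPGroup' ha (h.cj a ha q) haT hqa
        exact ((show Commute (q * a * q⁻¹) a from this).mul_left (Commute.refl a).inv_left).eq)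
    (coprime_card_map f h1) ((map_mono h2).trans (le_normalizer_map f))
    (le_normalizer_map f ⟨a, h3, rfl⟩) ⟨_, h4, rfl⟩
  obtain ⟨k, hk⟩ := h.ord a ha
  have h6 : f a ^ p ^ k = 1 := by rw [← map_pow, ← hk, pow_orderOf_eq_one, map_one]
  have h7 : (f ⁅b, a⁆ * f a) ^ p ^ k = 1 := by
    rw [map_commutatorElement, commutatorElement_def, inv_mul_cancel_right, conj_pow, h6]
    group
  rw [(commutatorElement_eq_one_iff_commute.1 h5).mul_pow, h6, mul_one] at h7
  exact (QuotientGroup.eq_one_iff _).1 (eq_one_of_coprime_of_pow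
    (coprime_orderOf_of_mem (coprime_card_map f h1) ⟨_, h4, rfl⟩) h7)

theorem Ds.mem (h : Ds p D) (hG : IsPSolvable p G) (T : Sylow p G) {b : G} (hb : b ∈ D) :
    b ∈ closure (D ∩ (T : Subgroup G)) ⊔ pPrimeCore p G := by
  have hO : (pPrimeCore p G).Normal := inferInstance
  let f := QuotientGroup.mk' (pPrimeCore p G)
  have hf := QuotientGroup.mk'_surjective (pPrimeCore p G)
  have ho : ∀ x ∈ D, IsPGroup p (zpowers (f x)) := fun x hx => by
    rw [← MonoidHom.map_zpowers]; exact (isPGroup_zpowers_of_pElt (h.ord x hx)).map f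
  have h1 : f b ∈ T.mapSurjective hf := CL.Inv.baer_suzuki_elem (fun g => by
    obtain ⟨g, rfl⟩ := hf g
    have h2 : ⁅f (g * b * g⁻¹), f b⁆ = 1 := by
      rw [← map_commutatorElement]
      exact (QuotientGroup.eq_one_iff _).2 (h.mod hG hb (h.cj b hb g))
    refine (isPGroup_sup_of_normalizes (ho b hb) (ho _ (h.cj b hb g)) ?_).to_le ?_
    · refine zpowers_le.2 (centralizer_le_normalizer _ (mem_centralizer_iff.2 ?_))
      rintro _ ⟨k, rfl⟩
      exact ((commutatorElement_eq_one_iff_commute.1 h2).zpow_left k).eq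
    · refine (closure_le _).2 ?_
      rintro x (rfl | rfl)
      · exact mem_sup_left (mem_zpowers _)
      · exact mem_sup_right (by simp [f])) _
  have h2 : b ∈ (T : Subgroup G) ⊔ pPrimeCore p G := by
    have : b ∈ ((T : Subgroup G).map f).comap f := h1
    rwa [comap_map_eq, QuotientGroup.ker_mk'] at this
  obtain ⟨x, hx, h3⟩ := (sylIn_sylow T le_sup_left).exists_conj_le
    (isPGroup_zpowers_of_pElt (h.ord b hb)) (zpowers_le.2 h2)
  obtain ⟨t, ht, o, ho, rfl⟩ := (mem_sup_of_normalizes_right (le_norm_normal _ _)).1 hx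
  have h4 : o * b * o⁻¹ ∈ (T : Subgroup G) := by
    have := mul_mem (mul_mem (inv_mem ht) (h3 (conj_mem_cj (mem_zpowers b)))) ht
    simpa [mul_assoc] using this
  have e : b = o⁻¹ * (o * b * o⁻¹) * o := by group
  rw [e]
  exact mul_mem (mul_mem (mem_sup_right (inv_mem ho))
    (mem_sup_left (subset_closure ⟨h.cj b hb o, h4⟩))) (mem_sup_right ho)

theorem Ds.mem' (h : Ds p D) {Y : Subgroup G} (hY : IsPSolvable p Y) (P : Sylow p G)
    (hP : (P : Subgroup G) ≤ Y) {b : G} (hb : b ∈ D) (hbY : b ∈ Y) :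
    b ∈ closure (D ∩ (P : Subgroup G)) ⊔ opOf p Y := by
  have h1 := (h.sub Y).mem hY (sylIn_sylow P hP).toSylow (b := ⟨b, hbY⟩) hb
  have h2 : (closure (Y.subtype ⁻¹' D ∩ ((sylIn_sylow P hP).toSylow : Subgroup Y)) ⊔
      pPrimeCore p Y).map Y.subtype ≤ closure (D ∩ (P : Subgroup G)) ⊔ opOf p Y := by
    rw [Subgroup.map_sup, MonoidHom.map_closure]
    refine sup_le_sup (closure_mono ?_) le_rfl
    rintro _ ⟨x, hx, rfl⟩
    exact hx
  exact h2 ⟨_, h1, rfl⟩

end CL.XC
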