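import Cfsg.Agent.FGS.XC.PS
import Cfsg.Agent.INV.ZStar

/-! Groups in which any two Sylow `p`-subgroups generate a `p`-solvable subgroup. -/

set_option autoImplicit false

namespace CL.XC
open Subgroup Cfsg CL.Blk CL.MSS CL.PComp
open scoped commutatorElement

universe u

section
variable {G : Type*} [Group G] [Finite G] {p : ℕ} [hp : Fact p.Prime] {H : Subgroup G}

theorem Hw.lemA (h : Hw p H) {g : G} {O : Subgroup G} (hO : (Nat.card O).Coprime p)
    (hXO : H ⊔ g •ᶜ H ≤ normalizer (O : Set G)) (hle : g •ᶜ H ≤ H ⊔ O) :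
    ∃ n ∈ normalizer (H : Set G), ∀ x ∈ H, ∀ y ∈ H, ∃ s t : G,
      x * (g * y * g⁻¹) = t * (x * (n * y * n⁻¹) * s) * t⁻¹ ∧ Commute (x * (n * y * n⁻¹)) s ∧
        ¬ p ∣ orderOf s ∧ s ∈ H ⊔ g •ᶜ H := by
  obtain ⟨K, hK, hXK, hHK⟩ : ∃ K : Subgroup G, (Nat.card K).Coprime p ∧
      H ⊔ g •ᶜ H ≤ normalizer (K : Set G) ∧ H ⊔ K = H ⊔ g •ᶜ H :=
    ⟨(H ⊔ g •ᶜ H) ⊓ O, coprime_card_of_le inf_le_right hO, le_normalizer_inf le_normalizer hXO, by
      rw [← inf_sup_of_normalizes le_sup_left (le_sup_left.trans hXO)]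
      exact inf_eq_left.2 (sup_le le_sup_left hle)⟩
  have hn : H ≤ normalizer (K : Set G) := le_sup_left.trans hXK
  have h1 : SylIn p H (H ⊔ g •ᶜ H) := ⟨le_sup_left, h.pg, fun Q hQ h2 h3 => by
    rw [← inf_eq_left.2 h3, ← hHK, inf_sup_of_normalizes h2 hn,
      inf_eq_bot_of_isPGroup_of_coprime hQ hK, sup_bot_eq]⟩
  have hb : H ⊓ K = ⊥ := inf_eq_bot_of_isPGroup_of_coprime h.pg hK
  have hKX : K ≤ H ⊔ g •ᶜ H := hHK ▸ le_sup_right
  have dec : ∀ t ∈ H ⊔ g •ᶜ H, ∃ k ∈ K, ∃ a ∈ H, k * a = t := fun t ht =>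
    (mem_sup_of_normalizes_left hn).1 (by rwa [sup_comm, hHK])
  have key : ∀ t ∈ H ⊔ g •ᶜ H, ∀ v ∈ H, v⁻¹ * (t * v * t⁻¹) ∈ K := by
    intro t ht v hv
    obtain ⟨k, hk, a, ha, rfl⟩ := dec t ht
    have e : v⁻¹ * (k * a * v * (k * a)⁻¹) = v⁻¹ * k * v * k⁻¹ := by
      rw [mul_assoc k a v, h.ab a ha v hv]; group
    rw [e]
    exact mul_mem (conj_mem_of_normalizes' hn hv hk) (inv_mem hk)
  obtain ⟨x0, hx0, e0⟩ := h1.exists_conj (h1.of_card_le (isPGroup_cj g h.pg) le_sup_right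
    (card_cj g H).ge)
  obtain ⟨k, hk, a, ha, rfl⟩ := dec x0 hx0
  rw [cj_mul, cj_eq_of_mem ha] at e0
  have hN : k⁻¹ * g ∈ normalizer (H : Set G) := by
    rw [mem_normalizer_iff_cj, cj_mul, ← e0, inv_cj_cj]
  refine ⟨k⁻¹ * g, hN, fun x hx y hy => ?_⟩
  have hz : k⁻¹ * g * y * (k⁻¹ * g)⁻¹ ∈ H := (mem_normalizer_iff.1 hN y).1 hy
  have ew : x * (g * y * g⁻¹) = x * (k * (k⁻¹ * g * y * (k⁻¹ * g)⁻¹) * k⁻¹) := by group
  rw [ew]
  generalize k⁻¹ * g * y * (k⁻¹ * g)⁻¹ = z at hz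
  have hv : x * z ∈ H := mul_mem hx hz
  have hw : x * (k * z * k⁻¹) ∈ H ⊔ g •ᶜ H :=
    mul_mem (mem_sup_left hx) (mul_mem (mul_mem (hKX hk) (mem_sup_left hz)) (inv_mem (hKX hk)))
  obtain ⟨c, hc⟩ := exists_isPPart hp.out (x * (k * z * k⁻¹))
  have hcX := hc.mem hp.out hw
  obtain ⟨b, hcb, hcm, hco, hbo⟩ := hc
  have hbX : b ∈ H ⊔ g •ᶜ H := by
    have := mul_mem (inv_mem hcX) hw
    rwa [← hcb, inv_mul_cancel_left] at this
  have hbK : b ∈ K := mem_of_reg h.pg hK hn (hHK ▸ hbX) hbo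
  obtain ⟨t, ht, htc⟩ := h1.exists_conj_le (isPGroup_zpowers_of_pElt hco) (zpowers_le.2 hcX)
  have hc' : t * c * t⁻¹ ∈ H := htc (conj_mem_cj (mem_zpowers c))
  have hs : t * b * t⁻¹ ∈ K := conj_mem_of_normalizes hXK ht hbK
  have e1 : t * c * t⁻¹ = x * z := by
    have h2 : (x * z)⁻¹ * (t * c * t⁻¹) ∈ H ⊓ K := ⟨H.mul_mem (H.inv_mem hv) hc', by
      have e : (x * z)⁻¹ * (t * c * t⁻¹) = (x * z)⁻¹ * (t * (x * z) * t⁻¹) *
          (t * (z⁻¹ * (k * z * k⁻¹)) * t⁻¹) * (t * b * t⁻¹)⁻¹ := by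
        rw [show c = x * (k * z * k⁻¹) * b⁻¹ by rw [← hcb]; group]; group
      rw [e]
      exact K.mul_mem (K.mul_mem (key t ht _ hv)
        (conj_mem_of_normalizes hXK ht (key k (hKX hk) z hz))) (K.inv_mem hs)⟩
    rw [hb, mem_bot] at h2
    exact (inv_mul_eq_one.1 h2).symm
  have hcs : Commute (x * z) (t * b * t⁻¹) := by
    rw [← e1]
    have := hcm.eq
    change _ * _ = _ * _
    calc t * c * t⁻¹ * (t * b * t⁻¹) = t * (c * b) * t⁻¹ := by group
      _ = _ := by rw [this]; group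
  exact ⟨t * b * t⁻¹, t⁻¹, by rw [← e1, ← hcb]; group, hcs, by rwa [orderOf_conj'], hKX hs⟩

variable {D : Set G}

/-- The weak closure of `D` in `P`. -/
abbrev Wc (D : Set G) (P : Sylow p G) : Subgroup G := closure (D ∩ (P : Subgroup G))

omit [Finite G] hp in
theorem Wc_le (P : Sylow p G) : Wc D P ≤ P := (closure_le _).2 Set.inter_subset_right

theorem Ds.hw (h : Ds p D) (P : Sylow p G) : Hw p (Wc D P) := by
  refine ⟨P.isPGroup'.to_le (Wc_le P), fun x hx y hy => ?_⟩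
  have h1 : Wc D P ≤ centralizer (D ∩ (P : Subgroup G)) := (closure_le _).2 fun a ha b hb =>
    h.comm P.isPGroup' ha.1 hb.1 ha.2 hb.2
  have h2 : Wc D P ≤ centralizer (Wc D P : Set G) := by rwa [centralizer_closure]
  exact h2 hy x hx

omit [Finite G] hp in
theorem Ds.cj_Wc_le (h : Ds p D) (P : Sylow p G) (g : G) : g •ᶜ Wc D P ≤ Wc D (g • P) := by
  rw [cj_closure]
  refine closure_mono ?_
  rintro _ ⟨x, hx, rfl⟩
  exact ⟨h.cj x hx.1 g, by rw [sylow_coe_smul]; exact conj_mem_cj hx.2⟩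

omit [Finite G] hp in
theorem Ds.cj_Wc (h : Ds p D) (P : Sylow p G) (g : G) : g •ᶜ Wc D P = Wc D (g • P) :=
  le_antisymm (h.cj_Wc_le P g) (le_cj_iff.2 (by simpa using h.cj_Wc_le (g • P) g⁻¹))

theorem Ds.Wc_eq (h : Ds p D) {P Q : Sylow p G} (hle : Wc D P ≤ Q) : Wc D P = Wc D Q := by
  obtain ⟨g, rfl⟩ := MulAction.exists_smul_eq G P Q
  refine eq_of_le_of_card_ge ((closure_le _).2 fun x hx =>
    subset_closure ⟨hx.1, hle (subset_closure hx)⟩) ?_
  rw [← h.cj_Wc, card_cj]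

theorem Ds.Wc_le_sup (h : Ds p D) {P Q : Sylow p G}
    (hs : IsPSolvable p ((P : Subgroup G) ⊔ Q : Subgroup G)) :
    Wc D Q ≤ Wc D P ⊔ opOf p ((P : Subgroup G) ⊔ Q) := (closure_le _).2 fun _ hx =>
  h.mem' hs P le_sup_left hx.1 (mem_sup_right hx.2)

theorem Ds.fb (h : Ds p D) {M : Ideal AlgInt} (hM : IsPModular p M)
    (hs : ∀ P Q : Sylow p G, IsPSolvable p ((P : Subgroup G) ⊔ Q : Subgroup G))
    (hc : ∀ v : G, v ≠ 1 → IsPSolvable p (centralizer ({v} : Set G))) (P : Sylow p G) :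
    FB p M (Wc D P) := by
  intro g
  have hw := h.hw P
  obtain ⟨n, hn, hg⟩ := hw.lemA (g := g) (opOf_coprime p ((P : Subgroup G) ⊔ (g • P : Sylow p G)))
    ((sup_le_sup (Wc_le P) ((h.cj_Wc P g).le.trans (Wc_le _))).trans (le_normalizer_opOf p _))
    ((h.cj_Wc P g).le.trans (h.Wc_le_sup (hs _ _)))
  refine ⟨n, hn, fun x hx y hy => ?_⟩
  obtain ⟨s, t, e, hcm, hso, hsX⟩ := hg x hx y hy
  have hv : x * (n * y * n⁻¹) ∈ Wc D P := mul_mem hx ((mem_normalizer_iff.1 hn y).1 hy)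
  refine ⟨fun h1 χ hχ => ?_, fun h1 => by rwa [e, h1, one_mul, orderOf_conj']⟩
  rw [e, χ.2.isClassFunction]
  refine Cfsg.Agent.S0942.result p M hM _ (hw.ord hv) s ?_ χ hχ
  rw [centralizerPPrimeCore_eq]
  obtain ⟨Q, hQ, hWQ⟩ := exists_sylIn_ge hw.pg (hw.le_cen hv)
  obtain ⟨P₁, hP₁⟩ := hQ.pgroup.exists_le_sylow
  have e1 := h.Wc_eq (hWQ.trans hP₁)
  have e2 : Wc D P ⊔ g •ᶜ Wc D P ≤ Wc D P ⊔ opOf p ((P₁ : Subgroup G) ⊔ (g • P : Sylow p G)) := by
    refine sup_le le_sup_left ?_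
    rw [h.cj_Wc, e1]
    exact h.Wc_le_sup (hs _ _)
  exact le_opOf_of_sylIn (hc _ h1) hQ (opOf_coprime p ((P₁ : Subgroup G) ⊔ (g • P : Sylow p G)))
    (hP₁.trans (le_sup_left.trans (le_normalizer_opOf p _)))
    ⟨mem_of_reg hw.pg (opOf_coprime p _)
      (hWQ.trans (hP₁.trans (le_sup_left.trans (le_normalizer_opOf p _))))
      (e2 hsX) hso, mem_centralizer_singleton_iff.2 hcm.eq.symm⟩

theorem ds_of_pairs (hs : ∀ P Q : Sylow p G, IsPSolvable p ((P : Subgroup G) ⊔ Q : Subgroup G))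
    (P : Sylow p G) {z : G} (hz : z ∈ (P : Subgroup G))
    (hc : z ∈ centralizer ((P : Subgroup G) : Set G)) : Ds p {a | IsConj z a} := by
  have hS : ∀ a, IsConj z a → ∀ R : Subgroup G, IsPGroup p R → R ≤ centralizer ({a} : Set G) →
      ∃ S : Sylow p G, R ≤ S ∧ a ∈ (S : Subgroup G) ∧
        a ∈ centralizer ((S : Subgroup G) : Set G) := by
    intro a ha R hR hRa
    obtain ⟨g, rfl⟩ := isConj_iff.1 ha
    have h1 : ((g • P : Sylow p G) : Subgroup G) ≤ centralizer ({g * z * g⁻¹} : Set G) := by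
      rw [sylow_coe_smul, ← cj_centralizer_singleton]
      exact cj_mono g fun x hx => mem_centralizer_singleton_iff.2 (hc x hx)
    obtain ⟨x, hx, h2⟩ := (sylIn_sylow _ h1).exists_le_conj hR hRa
    have h3 : x * (g * z * g⁻¹) * x⁻¹ = g * z * g⁻¹ :=
      mul_inv_eq_iff_eq_mul.2 (mem_centralizer_singleton_iff.1 hx)
    refine ⟨x • g • P, h2, ?_, fun y hy => mem_centralizer_singleton_iff.1
      (cj_le_of_mem h1 hx hy)⟩
    rw [← h3, sylow_coe_smul, sylow_coe_smul]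
    exact conj_mem_cj (conj_mem_cj hz)
  refine ⟨fun a ha g => ha.trans (isConj_iff.2 ⟨g, rfl⟩), fun a ha => by
    rw [← IsConj.orderOf_eq' ha]; exact pElt_of_mem_isPGroup hp.out P.isPGroup' hz,
    fun a ha b hb R hR hRa => ?_⟩
  obtain ⟨S, h1, h2, h3⟩ := hS a ha R hR hRa
  obtain ⟨T, -, h4, h5⟩ := hS b hb ⊥ IsPGroup.of_bot bot_le
  refine ⟨opOf p ((S : Subgroup G) ⊔ T), opOf_coprime p _,
    h1.trans (le_sup_left.trans (le_normalizer_opOf p _)),
    le_normalizer_opOf p _ (mem_sup_left h2), ?_⟩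
  exact (mem_opOf ⁅(⟨b, mem_sup_right h4⟩ : ((S : Subgroup G) ⊔ T : Subgroup G)),
    ⟨a, mem_sup_left h2⟩⁆).2 (comm_core (hs S T) (sylIn_sylow S le_sup_left).toSylow
      (sylIn_sylow T le_sup_right).toSylow (fun y hy => Subtype.ext (h3 _ hy))
      fun y hy => Subtype.ext (h5 _ hy))

theorem simple_case [IsSimpleGroup G]
    (hs : ∀ P Q : Sylow p G, IsPSolvable p ((P : Subgroup G) ⊔ Q : Subgroup G))
    (hsub : ∀ Y : Subgroup G, Y ≠ ⊤ → IsPSolvable p Y) : IsPSolvable p G := by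
  by_contra hG
  have h0 : pPrimeCore p G = ⊥ := (IsSimpleGroup.eq_bot_or_eq_top_of_normal _ inferInstance).resolve_right
    fun e => hG (CL.isPSolvable_of_coprime (by
      have := CL.coprime_card_pPrimeCore p G
      rwa [e, card_top] at this))
  have hZ : ∀ v : G, v ∈ center G → v = 1 := fun v hv => by
    rcases IsSimpleGroup.eq_bot_or_eq_top_of_normal (center G) inferInstance with e | e
    · rwa [e, mem_bot] at hv
    · have : Group.IsSolvable G := Group.isSolvable_of_comm fun a b =>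
        mem_center_iff.1 (e ▸ mem_top b) a
      exact absurd (CL.isPSolvable_of_isSolvable p G) hG
  obtain ⟨P⟩ : Nonempty (Sylow p G) := inferInstance
  have hP : (P : Subgroup G) ≠ ⊥ := fun e => hG (CL.isPSolvable_of_coprime
    (coprime_card_iff_not_dvd.2 (by simpa [e] using P.not_dvd_index)))
  obtain ⟨⟨z, hz⟩, hzo⟩ := exists_prime_orderOf_dvd_card' p (dvd_card_of_isPGroup_le
    (P.isPGroup'.to_le inf_le_left) (inf_centralizer_ne_bot P.isPGroup' P.isPGroup' le_normalizer hP)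
    le_rfl)
  rw [← orderOf_coe] at hzo
  have hz1 : z ≠ 1 := fun e => hp.out.ne_one (by simpa [e] using hzo.symm)
  have h := ds_of_pairs hs P hz.1 hz.2
  obtain ⟨M, hM⟩ := CL.Glb.exists_isPModular hp.out
  have hB := h.fb hM hs (fun v hv => hsub _ fun e => hv (hZ v
    (zpowers_le_center e (mem_zpowers v)))) P
  have hzW : z ∈ Wc {a | IsConj z a} P := subset_closure ⟨IsConj.refl z, hz.1⟩
  have hn : normalClosure (Wc {a | IsConj z a} P : Set G) = ⊤ :=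
    (IsSimpleGroup.eq_bot_or_eq_top_of_normal _ inferInstance).resolve_left fun e =>
      hz1 (mem_bot.1 (e ▸ le_normalClosure hzW))
  refine hz1 (hZ z ?_)
  by_cases hp2 : p = 2
  · subst hp2
    refine CL.BS.zstar_center ⟨hzo, fun g hg => ?_⟩ h0
    have h1 : (P : Subgroup G) ≤ centralizer ({z} : Set G) := fun x hx =>
      mem_centralizer_singleton_iff.2 (hz.2 x hx)
    obtain ⟨x, hx, h2⟩ := (sylIn_sylow P h1).exists_conj_le
      (isPGroup_zpowers_of_pElt (h.ord _ (isConj_iff.2 ⟨g, rfl⟩)))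
      (zpowers_le.2 (mem_centralizer_singleton_iff.2 hg.eq.symm))
    have h3 : IsConj z (x * (g * z * g⁻¹) * x⁻¹) := h.cj _ (isConj_iff.2 ⟨g, rfl⟩) x
    have h4 := (h.hw P).nofus hM hn hB hzW
      (subset_closure ⟨h3, h2 (conj_mem_cj (mem_zpowers _))⟩) h3
    calc g * z * g⁻¹ = x⁻¹ * (x * (g * z * g⁻¹) * x⁻¹) * x := by group
      _ = z := by rw [h4, mul_assoc, ← mem_centralizer_singleton_iff.1 hx, inv_mul_cancel_left]
  · refine mem_center_iff.2 fun g => (commutatorElement_eq_one_iff_mul_comm.1 ?_).symm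
    rw [← mem_bot, ← h0]
    refine (h.hw P).comm_mem hp2 hM hn hB P (fun x hx => mem_normalizer_iff_cj.2 ?_) hzW g
    rw [h.cj_Wc, Sylow.smul_eq_iff_mem_normalizer.2 (le_normalizer hx)]

end

theorem pSolvable_of_sylow_pairs {p : ℕ} [hp : Fact p.Prime] (n : ℕ) : ∀ (G : Type u) [Group G]
    [Finite G], Nat.card G = n →
    (∀ P Q : Sylow p G, IsPSolvable p ((P : Subgroup G) ⊔ Q : Subgroup G)) → IsPSolvable p G := by
  induction n using Nat.strong_induction_on with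
  | _ n ih =>
  intro G _ _ hG hs
  subst hG
  have hsub : ∀ Y : Subgroup G, Y ≠ ⊤ → IsPSolvable p Y := fun Y hY => by
    refine ih _ (card_lt_of_ne_top hY) Y rfl fun P Q => ?_
    obtain ⟨P', hP⟩ := (P.isPGroup'.map Y.subtype).exists_le_sylow
    obtain ⟨Q', hQ⟩ := (Q.isPGroup'.map Y.subtype).exists_le_sylow
    exact CL.IsPSolvable.of_le (CL.IsPSolvable.subgroupOf (hs P' Q') Y)
      (sup_le ((map_le_iff_le_comap.1 hP).trans (comap_mono le_sup_left))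
        ((map_le_iff_le_comap.1 hQ).trans (comap_mono le_sup_right)))
  rcases subsingleton_or_nontrivial G with _ | _
  · exact CL.isPSolvable_of_isSolvable p G
  by_cases hN : ∃ N : Subgroup G, N.Normal ∧ N ≠ ⊥ ∧ N ≠ ⊤
  · obtain ⟨N, _, h1, h2⟩ := hN
    refine CL.IsPSolvable.of_normal_of_quotient N (hsub N h2) (ih _ ?_ _ rfl fun P Q => ?_)
    · rw [card_eq_card_quotient_mul_card_subgroup N]
      exact lt_mul_of_one_lt_right Nat.card_pos ((one_lt_card_iff_ne_bot _).2 h1)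
    · obtain ⟨P, rfl⟩ := Sylow.mapSurjective_surjective (QuotientGroup.mk'_surjective N) p P
      obtain ⟨Q, rfl⟩ := Sylow.mapSurjective_surjective (QuotientGroup.mk'_surjective N) p Q
      rw [Sylow.coe_mapSurjective, Sylow.coe_mapSurjective, ← Subgroup.map_sup]
      exact CL.IsPSolvable.map (hs P Q) _
  · have : IsSimpleGroup G := ⟨fun N hN' => by
      by_contra hc
      push Not at hc
      exact hN ⟨N, hN', hc⟩⟩
    exact simple_case hs hsub

end CL.XC
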