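import Cfsg.Agent.CHAR.ClassMult
import Cfsg.Agent.CHAR.Values
import Cfsg.Agent.BLK.BlockOrth

/-! Positivity of irreducible characters on products of two subgroups. -/

set_option autoImplicit false

namespace CL.XC
open Cfsg CL.Char CL.Blk
open scoped ComplexConjugate

variable {G : Type*} [Group G]

/-- An irreducible character is a positive semidefinite function.
Proof: `IsIrrCharacter.sum_mul_inv_mul_self` gives
`|G| χ(a⁻¹ b) / χ 1 = ∑ t, χ (t⁻¹) χ (t a⁻¹ b) = ∑ t, conj (χ (t a)) χ (t b)` (substitute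
`t ↦ t a`, `χ x⁻¹ = conj (χ x)`), so `|G| / χ 1` times the sum is
`∑ t, normSq (∑ j, c j χ (t * a j)) ≥ 0`. -/
theorem psd [Finite G] {χ : G → ℂ} (hχ : IsIrrCharacter G χ) {ι : Type*} [Fintype ι] (a : ι → G)
    (c : ι → ℝ) : 0 ≤ (∑ i, ∑ j, ((c i * c j : ℝ) : ℂ) * χ ((a i)⁻¹ * a j)).re := by
  have := Fintype.ofFinite G
  have h1 : ∀ i j, (Nat.card G : ℂ) * χ ((a i)⁻¹ * a j) / χ 1 = ∑ t, conj (χ (t * a i)) * χ (t * a j) :=
    fun i j => by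
      rw [← hχ.sum_mul_inv_mul_self, ← Equiv.sum_comp (Equiv.mulRight (a i))]
      exact Finset.sum_congr rfl fun t _ => by
        rw [Equiv.coe_mulRight, hχ.apply_inv, mul_assoc, mul_inv_cancel_left]
  have h2 : (((Nat.card G : ℝ) / charDegree χ : ℝ) : ℂ) * ∑ i, ∑ j, ((c i * c j : ℝ) : ℂ) * χ ((a i)⁻¹ * a j) =
      ((∑ t, Complex.normSq (∑ j, (c j : ℂ) * χ (t * a j)) : ℝ) : ℂ) := by
    simp only [Complex.ofReal_sum, Complex.normSq_eq_conj_mul_self, map_sum, map_mul, Complex.conj_ofReal,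
      Finset.sum_mul_sum]
    rw [Finset.mul_sum]
    refine Eq.trans (Finset.sum_congr rfl fun i _ => ?_) Finset.sum_comm
    rw [Finset.mul_sum]
    refine Eq.trans (Finset.sum_congr rfl fun j _ => ?_) Finset.sum_comm
    have := h1 i j
    rw [hχ.apply_one_eq_charDegree] at this
    calc _ = (c i * c j : ℂ) * ((Nat.card G : ℂ) * χ ((a i)⁻¹ * a j) / charDegree χ) := by push_cast; ring
      _ = _ := by rw [this, Finset.mul_sum]; exact Finset.sum_congr rfl fun t _ => by ring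
  have h3 := congrArg Complex.re h2
  rw [Complex.re_ofReal_mul, Complex.ofReal_re] at h3
  have h4 : (0 : ℝ) < (Nat.card G : ℝ) / charDegree χ :=
    div_pos (Nat.cast_pos.2 Nat.card_pos) (Nat.cast_pos.2 hχ.charDegree_pos)
  exact nonneg_of_mul_nonneg_right (h3 ▸ Finset.sum_nonneg fun t _ => Complex.normSq_nonneg _) h4

/-- Proof: `psd` with `ι = A × A`, `a (x, y) = φ x * (ψ y)⁻¹`, `c (x, y) = |A| [x = y] - 1`.
With `f x y = χ (φ x * (ψ y)⁻¹)` one has `χ ((a (x,y))⁻¹ * a (x',y')) = f (x⁻¹ x') (y⁻¹ y')`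
(conjugate by `ψ y`). With `D = ∑ x, f x x`, `T = ∑ x, ∑ y, f x y`, `h = |A|` the sum is
`h² (h D) - 2 h (h T) + h² T = h² (h D - T)` (reindex by left multiplication). -/
theorem pos_diag [Finite G] {χ : G → ℂ} (hχ : IsIrrCharacter G χ) {A : Type*} [Group A]
    [Fintype A] (φ ψ : A →* G) :
    (∑ x, ∑ y, χ (φ x * (ψ y)⁻¹)).re ≤ Fintype.card A * (∑ x, χ (φ x * (ψ x)⁻¹)).re := by
  classical
  let f : A → A → ℂ := fun x y => χ (φ x * (ψ y)⁻¹)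
  let c : A × A → ℝ := fun p => (if p.1 = p.2 then (Fintype.card A : ℝ) else 0) - 1
  have hc : ∀ g : A × A → ℂ, ∑ p, (c p : ℂ) * g p =
      Fintype.card A * ∑ x, g (x, x) - ∑ x, ∑ y, g (x, y) := fun g => by
    rw [Fintype.sum_prod_type, Finset.mul_sum, ← Finset.sum_sub_distrib]
    refine Finset.sum_congr rfl fun x _ => ?_
    simp [c, sub_mul, apply_ite ((↑) : ℝ → ℂ)]
  have h1 : ∀ p p' : A × A, χ ((φ p.1 * (ψ p.2)⁻¹)⁻¹ * (φ p'.1 * (ψ p'.2)⁻¹)) = f (p.1⁻¹ * p'.1) (p.2⁻¹ * p'.2) :=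
    fun p p' => by
      rw [← hχ.isClassFunction _ (ψ p.2)⁻¹]
      simp only [f, map_mul, map_inv]; congr 1; group
  have h2 : ∀ x y, ∑ x', ∑ y', f (x⁻¹ * x') (y⁻¹ * y') = ∑ x, ∑ y, f x y := fun x y => by
    rw [← Equiv.sum_comp (Equiv.mulLeft x⁻¹) fun x => ∑ y, f x y]
    exact Finset.sum_congr rfl fun x' _ => Equiv.sum_comp (Equiv.mulLeft y⁻¹) (f _)
  have h3 : ∀ x, ∑ x', f (x⁻¹ * x') (x⁻¹ * x') = ∑ x, f x x := fun x =>
    Equiv.sum_comp (Equiv.mulLeft x⁻¹) fun x => f x x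
  have h4 : ∑ x, ∑ y, ∑ x', f (x⁻¹ * x') (y⁻¹ * x') = Fintype.card A * ∑ x, ∑ y, f x y := by
    have h5 : ∀ x', ∑ x, ∑ y, f (x⁻¹ * x') (y⁻¹ * x') = ∑ x, ∑ y, f x y := fun x' => by
      rw [← Equiv.sum_comp ((Equiv.inv A).trans (Equiv.mulRight x')) fun x => ∑ y, f x y]
      exact Finset.sum_congr rfl fun x _ => Equiv.sum_comp ((Equiv.inv A).trans (Equiv.mulRight x')) (f _)
    rw [← nsmul_eq_mul, ← Finset.card_univ, ← Finset.sum_const, ← Finset.sum_congr rfl fun x' _ => h5 x']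
    exact (Finset.sum_congr rfl fun x _ => Finset.sum_comm).trans Finset.sum_comm
  have h6 := psd hχ (fun p : A × A => φ p.1 * (ψ p.2)⁻¹) c
  have h7 : ∑ p, ∑ p', ((c p * c p' : ℝ) : ℂ) * χ ((φ p.1 * (ψ p.2)⁻¹)⁻¹ * (φ p'.1 * (ψ p'.2)⁻¹)) =
      ((Fintype.card A ^ 2 : ℝ) : ℂ) * (((Fintype.card A : ℝ) : ℂ) * ∑ x, f x x - ∑ x, ∑ y, f x y) := by
    simp only [h1, Complex.ofReal_mul, mul_assoc, ← Finset.mul_sum, hc, h2, h3, Finset.sum_sub_distrib, h4,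
      Finset.sum_const, Finset.card_univ, nsmul_eq_mul]
    push_cast; ring
  rw [h7, Complex.re_ofReal_mul, Complex.sub_re, Complex.re_ofReal_mul] at h6
  have h8 : (0 : ℝ) < Fintype.card A ^ 2 := pow_pos (Nat.cast_pos.2 Fintype.card_pos) 2
  exact sub_nonneg.1 (nonneg_of_mul_nonneg_right h6 h8)

/-- Proof: `irr_mul_sum_conj` gives `χ 1 * |G| χ (u u) = |G| χ u χ u`, so `χ 1 χ (u u) = χ u ^ 2`
for all `u ∈ H`. Take `u₀ ∈ H` with `t = ‖χ u₀‖` minimal; `t > 0` and `‖χ 1‖ t ≤ ‖χ 1‖ ‖χ (u₀ u₀)‖ = t²`,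
so `‖χ 1‖ ≤ t ≤ ‖χ u‖ ≤ ‖χ 1‖`; `IsCharacter.mem_charCenter'`. -/
theorem scalar [Finite G] {χ : G → ℂ} (hχ : IsIrrCharacter G χ) {H : Subgroup G}
    (h0 : ∀ u ∈ H, χ u ≠ 0) (hsq : ∀ u ∈ H, ∀ g : G, χ (u * (g * u * g⁻¹)) = χ (u * u)) :
    H ≤ charCenter χ := by
  have := Fintype.ofFinite G
  have h1 : ∀ u ∈ H, ‖χ 1‖ * ‖χ (u * u)‖ = ‖χ u‖ * ‖χ u‖ := fun u hu => by
    have := irr_mul_sum_conj hχ u u
    simp only [hsq u hu, Finset.sum_const, Finset.card_univ, nsmul_eq_mul, ← Nat.card_eq_fintype_card] at this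
    have h2 : (Nat.card G : ℂ) ≠ 0 := Nat.cast_ne_zero.2 Nat.card_pos.ne'
    rw [← norm_mul, ← norm_mul]
    exact congrArg _ (mul_left_cancel₀ h2 (by linear_combination this))
  obtain ⟨u, hu⟩ := Finite.exists_min fun u : H => ‖χ u‖
  have h3 := h1 u u.2
  have h4 := hu (u * u)
  have h5 : 0 < ‖χ u‖ := norm_pos_iff.2 (h0 u u.2)
  have h6 : ‖χ 1‖ ≤ ‖χ u‖ := le_of_mul_le_mul_right
    ((mul_le_mul_of_nonneg_left h4 (norm_nonneg _)).trans h3.le) h5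
  exact fun v hv => hχ.isCharacter.mem_charCenter'.2
    (le_antisymm (hχ.isCharacter.norm_le_norm_one v) (h6.trans (hu ⟨v, hv⟩)))

end CL.XC
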